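import Cfsg.Prelude.Def_Solvable
import Cfsg.Agent.Lib.Cores.PCore
import Cfsg.Agent.Lib.Characters.Burnside
import Cfsg.Agent.Lib.QuadFin.EightPointRadical
import Mathlib.GroupTheory.Perm.Centralizer
import Mathlib.GroupTheory.SpecificGroups.Alternating.Simple

/-!
Subgroups of `A₈` isomorphic to `S₆` are conjugate; nonsolvable subgroups with an odd normal subgroup.
-/

set_option autoImplicit false
set_option linter.style.haveILetI false

namespace Cfsg.Agent.Lib.SectionalFour

open Equiv MulAction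

/-- `g` preserves the pair `{a, b}`. -/
def PairFix (a b : Fin 8) (g : Perm (Fin 8)) : Prop := (g a = a ∧ g b = b) ∨ (g a = b ∧ g b = a)

theorem card_other (a b : Fin 8) (hab : a ≠ b) : Fintype.card {x : Fin 8 // x ≠ a ∧ x ≠ b} = 6 := by
  rw [Fintype.card_subtype]
  revert a b
  decide +kernel

theorem card_le_of_pairFix {a b : Fin 8} (hab : a ≠ b) (H : Subgroup (Perm (Fin 8)))
    (hA : H ≤ alternatingGroup (Fin 8)) (hH : ∀ g ∈ H, PairFix a b g) : Nat.card H ≤ 720 := by
  classical
  have hinv : ∀ g : H, ∀ x : Fin 8, ((g : Perm (Fin 8)) x ≠ a ∧ (g : Perm (Fin 8)) x ≠ b) ↔ x ≠ a ∧ x ≠ b := by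
    intro g x
    rcases hH g g.2 with ⟨h1, h2⟩ | ⟨h1, h2⟩
    · constructor <;> rintro ⟨h3, h4⟩
      · exact ⟨fun e => h3 (e ▸ h1), fun e => h4 (e ▸ h2)⟩
      · exact ⟨fun e => h3 ((g : Perm (Fin 8)).injective (e.trans h1.symm)),
          fun e => h4 ((g : Perm (Fin 8)).injective (e.trans h2.symm))⟩
    · constructor <;> rintro ⟨h3, h4⟩
      · exact ⟨fun e => h4 (e ▸ h1), fun e => h3 (e ▸ h2)⟩
      · exact ⟨fun e => h4 ((g : Perm (Fin 8)).injective (e.trans h2.symm)),
          fun e => h3 ((g : Perm (Fin 8)).injective (e.trans h1.symm))⟩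
  let r : H → Perm {x : Fin 8 // x ≠ a ∧ x ≠ b} := fun g => Equiv.Perm.subtypePerm g (hinv g)
  have hinj : Function.Injective r := by
    intro g g' hgg
    have hoff : ∀ x, x ≠ a → x ≠ b → (g : Perm (Fin 8)) x = (g' : Perm (Fin 8)) x := fun x hxa hxb => by
      have := DFunLike.congr_fun hgg ⟨x, hxa, hxb⟩
      exact congrArg Subtype.val this
    obtain ⟨z, hz⟩ : ∃ z : H, z = g'⁻¹ * g := ⟨_, rfl⟩
    have hzoff : ∀ x, x ≠ a → x ≠ b → (z : Perm (Fin 8)) x = x := by
      intro x hxa hxb
      rw [hz, Subgroup.coe_mul, Subgroup.coe_inv, Perm.mul_apply, hoff x hxa hxb, Perm.inv_eq_iff_eq]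
    have hz1 : (z : Perm (Fin 8)) = 1 := by
      rcases hH z z.2 with ⟨h1, h2⟩ | ⟨h1, h2⟩
      · ext x
        by_cases hxa : x = a
        · subst hxa; simp [h1]
        by_cases hxb : x = b
        · subst hxb; simp [h2]
        simp [hzoff x hxa hxb]
      · exfalso
        have hs : (z : Perm (Fin 8)) = swap a b := by
          refine Equiv.ext fun x => ?_
          by_cases hxa : x = a
          · subst hxa; rw [h1, swap_apply_left]
          by_cases hxb : x = b
          · subst hxb; rw [h2, swap_apply_right]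
          rw [hzoff x hxa hxb, swap_apply_of_ne_of_ne hxa hxb]
        have := Perm.mem_alternatingGroup.mp (hA z.2)
        rw [hs, Perm.sign_swap hab] at this
        exact absurd this (by decide)
    have hz2 : z = 1 := Subtype.ext hz1
    exact (inv_mul_eq_one.mp (hz ▸ hz2)).symm
  refine (Nat.card_le_card_of_injective r hinj).trans (le_of_eq ?_)
  rw [Nat.card_perm, Nat.card_eq_fintype_card, card_other a b hab]
  rfl

theorem exists_even_map {a b c d : Fin 8} (hab : a ≠ b) (hcd : c ≠ d) :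
    ∃ g ∈ alternatingGroup (Fin 8), g a = c ∧ g b = d := by
  classical
  let σ : Perm (Fin 8) := swap (swap a c b) d * swap a c
  have hσa : σ a = c := by
    have hx : c ≠ swap a c b := fun e => hab ((swap a c).injective (by rw [swap_apply_left, ← e]))
    simp only [σ, Perm.mul_apply, swap_apply_left]
    exact swap_apply_of_ne_of_ne hx hcd
  have hσb : σ b = d := by simp only [σ, Perm.mul_apply, swap_apply_left]
  rcases Int.units_eq_one_or (Perm.sign σ) with h | h
  · exact ⟨σ, Perm.mem_alternatingGroup.mpr h, hσa, hσb⟩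
  · obtain ⟨e, f, hef, hec, hed, hfc, hfd⟩ : ∃ e f : Fin 8, e ≠ f ∧ e ≠ c ∧ e ≠ d ∧ f ≠ c ∧ f ≠ d := by
      clear hσa hσb h
      revert c d
      decide +kernel
    refine ⟨swap e f * σ, Perm.mem_alternatingGroup.mpr ?_, ?_, ?_⟩
    · rw [map_mul, Perm.sign_swap hef, h]; rfl
    · rw [Perm.mul_apply, hσa, swap_apply_of_ne_of_ne hec.symm hfc.symm]
    · rw [Perm.mul_apply, hσb, swap_apply_of_ne_of_ne hed.symm hfd.symm]

theorem no_five_three : ∀ x y : Perm (Fin 6), orderOf x = 5 → orderOf y = 3 → Commute x y → False := by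
  intro x y hx hy hc
  have h15 : orderOf (x * y) = 15 := by
    rw [hc.orderOf_mul_eq_mul_orderOf_of_coprime (by rw [hx, hy]; norm_num), hx, hy]
  generalize x * y = σ at h15
  have hl : σ.cycleType.lcm = 15 := by rw [Perm.lcm_cycleType, h15]
  have hsum : σ.cycleType.sum ≤ 6 := by
    rw [Perm.sum_cycleType]
    exact (Finset.card_le_univ _).trans (Fintype.card_fin 6).le
  have hmem : ∀ a ∈ σ.cycleType, a = 3 ∨ a = 5 := by
    intro a ha
    have h2 := Perm.two_le_of_mem_cycleType ha
    have h7 : a ≤ 6 := (Multiset.le_sum_of_mem ha).trans hsum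
    have hd : a ∣ 15 := hl ▸ Multiset.dvd_lcm ha
    interval_cases a <;> omega
  by_cases h3 : 3 ∈ σ.cycleType
  · by_cases h5 : 5 ∈ σ.cycleType
    · obtain ⟨s, hs⟩ := Multiset.exists_cons_of_mem h3
      rw [hs] at h5 hsum
      have h5' : 5 ∈ s := by simpa using h5
      have := Multiset.le_sum_of_mem h5'
      rw [Multiset.sum_cons] at hsum
      omega
    · have : σ.cycleType.lcm ∣ 3 := Multiset.lcm_dvd.mpr fun a ha => by
        rcases hmem a ha with rfl | rfl
        · rfl
        · exact absurd ha h5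
      rw [hl] at this; norm_num at this
  · have : σ.cycleType.lcm ∣ 5 := Multiset.lcm_dvd.mpr fun a ha => by
      rcases hmem a ha with rfl | rfl
      · exact absurd ha h3
      · rfl
    rw [hl] at this; norm_num at this

theorem card_perm_six : Nat.card (Perm (Fin 6)) = 720 := by rw [Nat.card_perm, Nat.card_fin]; rfl

theorem card_alt_six : Nat.card (alternatingGroup (Fin 6)) = 360 := by
  rw [nat_card_alternatingGroup, Nat.card_fin]; rfl

theorem index_ne_eight (K : Subgroup (Perm (Fin 6))) : K.index ≠ 8 := by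
  intro hi
  haveI : Fact (Nat.Prime 5) := ⟨by norm_num⟩
  haveI : Fact (Nat.Prime 3) := ⟨by norm_num⟩
  haveI : IsSimpleGroup (alternatingGroup (Fin 6)) := alternatingGroup.isSimpleGroup (by simp)
  have hK : Nat.card K = 90 := by
    have := K.index_mul_card
    rw [hi, card_perm_six] at this
    omega
  set L : Subgroup (alternatingGroup (Fin 6)) := K.subgroupOf (alternatingGroup (Fin 6)) with hL
  have hLi : L.index ∣ 8 := by
    have h1 : (alternatingGroup (Fin 6)).relIndex K ∣ (alternatingGroup (Fin 6)).index :=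
      Subgroup.relIndex_dvd_index_of_normal _ _
    rw [alternatingGroup.index_eq_two] at h1
    have h2 := Subgroup.card_mul_index L
    have h3 : Nat.card L * (alternatingGroup (Fin 6)).relIndex K = 90 := by
      rw [← hK, Subgroup.relIndex, mul_comm]
      rw [show Nat.card L = Nat.card ((alternatingGroup (Fin 6)).subgroupOf K) from Nat.card_congr
        { toFun := fun z => ⟨⟨z.1.1, z.2⟩, z.1.2⟩
          invFun := fun z => ⟨⟨z.1.1, z.2⟩, z.1.2⟩
          left_inv := fun _ => rfl
          right_inv := fun _ => rfl }]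
      exact Subgroup.index_mul_card _
    rw [card_alt_six] at h2
    rcases (Nat.dvd_prime Nat.prime_two).mp h1 with h | h <;> rw [h] at h3
    · rw [show Nat.card L = 90 by omega] at h2
      rw [show L.index = 4 by omega]; norm_num
    · rw [show Nat.card L = 45 by omega] at h2
      rw [show L.index = 8 by omega]
  have hLne : L ≠ ⊤ := fun h => by
    have := Subgroup.card_le_of_le (Subgroup.subgroupOf_eq_top.mp h)
    rw [card_alt_six, hK] at this
    omega
  have h5 : 360 ∣ L.index.factorial :=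
    card_alt_six ▸ Cfsg.Agent.Lib.QuadFin.EightPoint.card_dvd_factorial_index hLne
  obtain ⟨i, hi8, hLi'⟩ := (Nat.dvd_prime_pow Nat.prime_two).mp (show L.index ∣ 2 ^ 3 from hLi)
  have hi3 : i = 3 := by
    interval_cases i <;> first | rfl | (rw [hLi'] at h5; norm_num [Nat.factorial] at h5)
  have hLc : Nat.card L = 45 := by
    have h := Subgroup.card_mul_index L
    rw [card_alt_six, hLi', hi3] at h
    omega
  obtain ⟨P⟩ : Nonempty (Sylow 5 L) := inferInstance
  obtain ⟨x, hx⟩ := exists_prime_orderOf_dvd_card' (G := L) 5 (hLc ▸ by norm_num)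
  obtain ⟨y, hy⟩ := exists_prime_orderOf_dvd_card' (G := L) 3 (hLc ▸ by norm_num)
  have hP5 : Nat.card (P : Subgroup L) = 5 := by
    rw [P.card_eq_multiplicity, hLc, show (45 : ℕ) = 5 * 9 by norm_num,
      Nat.factorization_mul (by norm_num) (by norm_num), Finsupp.add_apply,
      Nat.Prime.factorization_self (by norm_num), Nat.factorization_eq_zero_of_not_dvd (by norm_num)]
    rfl
  have hn : Nat.card (Sylow 5 L) = 1 := by
    have h1 : Nat.card (Sylow 5 L) ∣ 9 := by
      have h2 := P.card_dvd_index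
      have h3 := Subgroup.card_mul_index (P : Subgroup L)
      rw [hP5, hLc] at h3
      rwa [show (P : Subgroup L).index = 9 by omega] at h2
    have h2 : Nat.card (Sylow 5 L) % 5 = 1 % 5 := card_sylow_modEq_one 5 L
    have := Nat.le_of_dvd (by norm_num) h1
    interval_cases h : Nat.card (Sylow 5 L) <;> omega
  haveI : Subsingleton (Sylow 5 L) := (Nat.card_eq_one_iff_unique.mp hn).1
  haveI : (P : Subgroup L).Normal := P.normal_of_subsingleton
  have hz : Subgroup.zpowers x = (P : Subgroup L) := by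
    have hle : Subgroup.zpowers x ≤ (P : Subgroup L) := by
      obtain ⟨P', hP'⟩ := IsPGroup.exists_le_sylow (p := 5) (P := Subgroup.zpowers x)
        (IsPGroup.of_card (n := 1) (by rw [Nat.card_zpowers, hx]; norm_num))
      rwa [Subsingleton.elim P' P] at hP'
    exact Subgroup.eq_of_le_of_card_ge hle (by rw [hP5, Nat.card_zpowers, hx])
  have hcomm : Commute x y := by
    have hmem : y * x * y⁻¹ ∈ Subgroup.zpowers x := hz ▸ Subgroup.Normal.conj_mem inferInstance x
      (hz ▸ Subgroup.mem_zpowers x) y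
    obtain ⟨i, hi : x ^ i = y * x * y⁻¹⟩ := (isOfFinOrder_of_finite x).mem_powers_iff_mem_zpowers.mpr hmem
    have hpow : ∀ j : ℕ, y ^ j * x * (y ^ j)⁻¹ = x ^ i ^ j := by
      intro j
      induction j with
      | zero => simp
      | succ j ih =>
        rw [pow_succ' y, pow_succ i, pow_mul, ← ih]
        rw [show y * y ^ j * x * (y * y ^ j)⁻¹ = y * (y ^ j * x * (y ^ j)⁻¹) * y⁻¹ by group]
        rw [ih, ← conj_pow, ← hi, ← pow_mul, ← pow_mul, mul_comm]
    have h3 := hpow 3
    rw [← hy, pow_orderOf_eq_one, one_mul, inv_one, mul_one] at h3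
    have h4 : i ^ orderOf y ≡ 1 [MOD 5] := by
      rw [← hx, ← pow_eq_pow_iff_modEq, ← h3, pow_one]
    rw [hy] at h4
    have h5' : i % 5 = 1 := by
      have : (i % 5) ^ 3 % 5 = 1 := by rw [← Nat.pow_mod]; exact h4
      have hlt : i % 5 < 5 := Nat.mod_lt _ (by norm_num)
      interval_cases h : i % 5 <;> omega
    have h6 : y * x * y⁻¹ = x := by
      rw [← hi]
      rw [← pow_mod_orderOf, hx, h5', pow_one]
    exact (mul_inv_eq_iff_eq_mul.mp h6).symm
  refine no_five_three (x : alternatingGroup (Fin 6)) (y : alternatingGroup (Fin 6)) ?_ ?_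
    ((hcomm.map L.subtype).map (alternatingGroup (Fin 6)).subtype)
  · rw [Subgroup.orderOf_coe, Subgroup.orderOf_coe, hx]
  · rw [Subgroup.orderOf_coe, Subgroup.orderOf_coe, hy]

theorem index_small (K : Subgroup (Perm (Fin 6))) (h1 : 3 ≤ K.index) (h2 : K.index ≤ 5) : False := by
  haveI : IsSimpleGroup (alternatingGroup (Fin 6)) := alternatingGroup.isSimpleGroup (by simp)
  set L : Subgroup (alternatingGroup (Fin 6)) := K.subgroupOf (alternatingGroup (Fin 6)) with hL
  have hLi : L.index ≤ K.index :=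
    (Subgroup.relIndex_le_of_le_right (H := K) (le_top : alternatingGroup (Fin 6) ≤ ⊤)
      (by rw [Subgroup.relIndex_top_right]; omega)).trans_eq (Subgroup.relIndex_top_right K)
  by_cases htop : L = ⊤
  · have h3 := Subgroup.index_dvd_of_le (Subgroup.subgroupOf_eq_top.mp htop)
    rw [alternatingGroup.index_eq_two] at h3
    have := Nat.le_of_dvd two_pos h3
    omega
  · have h3 : 360 ∣ L.index.factorial :=
      card_alt_six ▸ Cfsg.Agent.Lib.QuadFin.EightPoint.card_dvd_factorial_index htop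
    have h4 : L.index.factorial ≤ Nat.factorial 5 := Nat.factorial_le (hLi.trans h2)
    have h5 := Nat.le_of_dvd (Nat.factorial_pos _) h3
    norm_num [Nat.factorial] at h4
    omega

theorem exists_pair (β : Perm (Fin 6) →* Perm (Fin 8)) (hβ : Function.Injective β) :
    ∃ a b : Fin 8, a ≠ b ∧ ∀ π, PairFix a b (β π) := by
  classical
  letI : MulAction (Perm (Fin 6)) (Fin 8) := MulAction.compHom (Fin 8) β
  have hk : ∀ x : Fin 8, (orbit (Perm (Fin 6)) x).ncard ≤ 2 ∨ (orbit (Perm (Fin 6)) x).ncard = 6 := by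
    intro x
    have hi := MulAction.index_stabilizer (Perm (Fin 6)) x
    have hd : (stabilizer (Perm (Fin 6)) x).index ∣ 720 := card_perm_six ▸ Subgroup.index_dvd_card _
    have h8 : (orbit (Perm (Fin 6)) x).ncard ≤ 8 :=
      (Set.ncard_le_ncard (Set.subset_univ _) Set.finite_univ).trans (by simp [Set.ncard_univ])
    by_contra hno
    push Not at hno
    have h3 : ¬ (stabilizer (Perm (Fin 6)) x).index ≤ 5 := fun h => index_small _ (by omega) h
    have h8' := index_ne_eight (stabilizer (Perm (Fin 6)) x)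
    have h7 : (stabilizer (Perm (Fin 6)) x).index = 7 := by omega
    rw [h7] at hd
    norm_num at hd
  obtain ⟨x, hx⟩ : ∃ x : Fin 8, (orbit (Perm (Fin 6)) x).ncard = 6 := by
    by_contra hno
    push Not at hno
    let π : Perm (Fin 6) := swap 0 1 * swap 1 2
    have hfix : ∀ (g : Perm (Fin 6)) (x : Fin 8), β g (β g x) = x := by
      intro g x
      by_contra hne
      have h1 : β g x ≠ x := fun e => hne (by rw [e, e])
      have h2 : β g (β g x) ≠ β g x := fun e => h1 ((β g).injective e)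
      have hsub : ({x, β g x, β g (β g x)} : Set (Fin 8)) ⊆ orbit (Perm (Fin 6)) x := by
        rintro y (rfl | rfl | rfl)
        · exact mem_orbit_self y
        · exact ⟨g, rfl⟩
        · exact ⟨g * g, by show β (g * g) x = _; rw [map_mul, Perm.mul_apply]⟩
      have h3 : ({x, β g x, β g (β g x)} : Set (Fin 8)).ncard = 3 :=
        Set.ncard_eq_three.mpr ⟨_, _, _, h1.symm, Ne.symm hne, h2.symm, rfl⟩
      have := Set.ncard_le_ncard hsub (Set.toFinite _)
      have := (hk x).resolve_right (hno x)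
      omega
    have : β (π * π) = 1 := Equiv.ext fun x => by rw [map_mul, Perm.mul_apply, hfix]; rfl
    rw [← map_one β] at this
    exact absurd (hβ this) (by decide +kernel)
  have hc : (orbit (Perm (Fin 6)) x)ᶜ.ncard = 2 := by
    have h := Set.ncard_add_ncard_compl (orbit (Perm (Fin 6)) x)
    rw [hx, Nat.card_eq_fintype_card, Fintype.card_fin] at h
    omega
  obtain ⟨a, b, hab, he⟩ := Set.ncard_eq_two.mp hc
  refine ⟨a, b, hab, fun π => ?_⟩
  have hmem : ∀ y ∈ ({a, b} : Set (Fin 8)), β π y ∈ ({a, b} : Set (Fin 8)) := by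
    rw [← he]
    intro y hy hy'
    obtain ⟨g, hg⟩ := hy'
    exact hy ⟨π⁻¹ * g, by
      show β (π⁻¹ * g) x = y
      rw [map_mul, map_inv, Perm.mul_apply, Perm.inv_eq_iff_eq]
      exact hg⟩
  have hne : β π a ≠ β π b := fun e => hab ((β π).injective e)
  rcases hmem a (Or.inl rfl) with h1 | h1 <;> rcases hmem b (Or.inr rfl) with h2 | h2
  · exact absurd (h1.trans h2.symm) hne
  · exact Or.inl ⟨h1, h2⟩
  · exact Or.inr ⟨h1, h2⟩
  · exact absurd (h1.trans h2.symm) hne

/-- The subgroups of `A₈` isomorphic to `S₆` form one conjugacy class. -/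
theorem six_conjugate {f₁ f₂ : Perm (Fin 6) →* alternatingGroup (Fin 8)} (h₁ : Function.Injective f₁)
    (h₂ : Function.Injective f₂) : ∃ g : alternatingGroup (Fin 8), ∀ π, ∃ π', f₁ π' = g * f₂ π * g⁻¹ := by
  classical
  set ι := (alternatingGroup (Fin 8)).subtype
  obtain ⟨a, b, hab, hf₁⟩ := exists_pair (ι.comp f₁) (Subtype.val_injective.comp h₁)
  obtain ⟨c, d, hcd, hf₂⟩ := exists_pair (ι.comp f₂) (Subtype.val_injective.comp h₂)
  obtain ⟨g, hgA, hgc, hgd⟩ := exists_even_map hcd hab
  refine ⟨⟨g, hgA⟩, fun π => ?_⟩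
  let S : Subgroup (Perm (Fin 8)) :=
    { carrier := {z | z ∈ alternatingGroup (Fin 8) ∧ PairFix a b z}
      one_mem' := ⟨one_mem _, Or.inl ⟨rfl, rfl⟩⟩
      mul_mem' := fun {u v} hu hv => ⟨mul_mem hu.1 hv.1, by
        rcases hu.2 with ⟨h1, h2⟩ | ⟨h1, h2⟩ <;> rcases hv.2 with ⟨h3, h4⟩ | ⟨h3, h4⟩ <;>
          simp [PairFix, h1, h2, h3, h4]⟩
      inv_mem' := fun {u} hu => ⟨inv_mem hu.1, by
        rcases hu.2 with ⟨h1, h2⟩ | ⟨h1, h2⟩
        · exact Or.inl ⟨Perm.inv_eq_iff_eq.mpr h1.symm, Perm.inv_eq_iff_eq.mpr h2.symm⟩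
        · exact Or.inr ⟨Perm.inv_eq_iff_eq.mpr h2.symm, Perm.inv_eq_iff_eq.mpr h1.symm⟩⟩ }
  have hR : (ι.comp f₁).range ≤ S := by
    rintro _ ⟨τ, rfl⟩
    exact ⟨(f₁ τ).2, hf₁ τ⟩
  have heq : (ι.comp f₁).range = S := by
    refine Subgroup.eq_of_le_of_card_ge hR ((card_le_of_pairFix hab S (fun z hz => hz.1) fun z hz => hz.2).trans
      (le_of_eq ?_))
    rw [← card_perm_six]
    exact Nat.card_congr (MonoidHom.ofInjective (Subtype.val_injective.comp h₁)).toEquiv
  have hga : g⁻¹ a = c := Perm.inv_eq_iff_eq.mpr hgc.symm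
  have hgb : g⁻¹ b = d := Perm.inv_eq_iff_eq.mpr hgd.symm
  obtain ⟨π', hπ'⟩ : g * (f₂ π : Perm (Fin 8)) * g⁻¹ ∈ (ι.comp f₁).range := by
    rw [heq]
    refine ⟨mul_mem (mul_mem hgA (f₂ π).2) (inv_mem hgA), ?_⟩
    have hmul : ∀ u, (g * (f₂ π : Perm (Fin 8)) * g⁻¹) u = g ((f₂ π : Perm (Fin 8)) (g⁻¹ u)) := fun u => rfl
    show PairFix a b _
    unfold PairFix
    rw [hmul, hmul, hga, hgb]
    rcases hf₂ π with ⟨h1, h2⟩ | ⟨h1, h2⟩
    · exact Or.inl ⟨(congrArg g h1).trans hgc, (congrArg g h2).trans hgd⟩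
    · exact Or.inr ⟨(congrArg g h1).trans hgd, (congrArg g h2).trans hgc⟩
  exact ⟨π', Subtype.ext hπ'⟩

end Cfsg.Agent.Lib.SectionalFour
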