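import Mathlib

/-!
2-groups in which the elements of order dividing 4 are central.
-/

set_option autoImplicit false
set_option linter.style.haveILetI false

namespace Cfsg.Agent.Lib.SectionalFour

variable {G : Type*} [Group G]

/-- A non-involution of a 2-group has a power of order four. -/
theorem exists_pow_four (hG : IsPGroup 2 G) {c : G} (hc : c ^ 2 ≠ 1) :
    ∃ n : ℕ, (c ^ n) ^ 4 = 1 ∧ (c ^ n) ^ 2 ≠ 1 := by
  classical
  have hex : ∃ k : ℕ, c ^ 2 ^ k = 1 := hG c
  have hk := Nat.find_spec hex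
  generalize hkk : Nat.find hex = k at hk
  rcases k with _ | _ | k
  · exact absurd (by rw [pow_zero, pow_one] at hk; rw [hk, one_pow]) hc
  · exact absurd (by simpa using hk) hc
  · refine ⟨2 ^ k, by rw [← pow_mul, ← hk]; ring_nf, fun h => ?_⟩
    have := Nat.find_le (h := hex) (n := k + 1) (by rw [pow_succ, pow_mul]; exact h)
    omega

/-- The involutions, with the identity, of a group whose elements of order dividing four are central. -/
def omega (G : Type*) [Group G] (hc : ∀ x y : G, x ^ 4 = 1 → Commute x y) : Subgroup G where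
  carrier := {x | x ^ 2 = 1}
  one_mem' := one_pow 2
  inv_mem' {x} hx := by
    change (x⁻¹) ^ 2 = 1
    rw [inv_pow, show x ^ 2 = 1 from hx, inv_one]
  mul_mem' {x y} hx hy := by
    have hx' : x ^ 2 = 1 := hx
    have h4 : x ^ 4 = 1 := by rw [show 4 = 2 * 2 from rfl, pow_mul, hx', one_pow]
    change (x * y) ^ 2 = 1
    rw [(hc x y h4).mul_pow, hx', show y ^ 2 = 1 from hy, one_mul]

section

variable (hc : ∀ x y : G, x ^ 4 = 1 → Commute x y)

theorem mem_omega {x : G} : x ∈ omega G hc ↔ x ^ 2 = 1 := Iff.rfl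

theorem omega_comm {x : G} (hx : x ∈ omega G hc) (y : G) : Commute x y :=
  hc x y (by rw [show 4 = 2 * 2 from rfl, pow_mul, (mem_omega hc).1 hx, one_pow])

theorem omega_normal : (omega G hc).Normal :=
  ⟨fun x hx g => by rwa [← (omega_comm hc hx g).eq, mul_inv_cancel_right]⟩

instance : (omega G hc).Normal := omega_normal hc

include hc in
theorem four_of_quot {q : G} (h : (QuotientGroup.mk q : G ⧸ omega G hc) ^ 2 = 1) : q ^ 4 = 1 := by
  rw [← QuotientGroup.mk_pow, QuotientGroup.eq_one_iff, mem_omega, ← pow_mul] at h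
  exact h

/-- The quotient by the involutions inherits the hypothesis. -/
theorem quot_hyp (hG : IsPGroup 2 G) :
    ∀ x y : G ⧸ omega G hc, x ^ 4 = 1 → Commute x y := by
  intro X Y
  induction X using QuotientGroup.induction_on with | H x =>
  induction Y using QuotientGroup.induction_on with | H y =>
  intro hx
  rw [← QuotientGroup.mk_pow, QuotientGroup.eq_one_iff, mem_omega, ← pow_mul] at hx
  have hz : Commute (x ^ 2) y := hc _ _ (by rw [← pow_mul]; exact hx)
  generalize hcdef : x * y * x⁻¹ * y⁻¹ = c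
  have hinv : MulAut.conj x c = c⁻¹ := by
    rw [MulAut.conj_apply, ← hcdef,
      show x * (x * y * x⁻¹ * y⁻¹) * x⁻¹ = (x ^ 2 * y) * x⁻¹ * y⁻¹ * x⁻¹ by
        simp only [pow_two, mul_assoc], hz.eq]
    group
  have hc2 : c ^ 2 = 1 := by
    by_contra hne
    obtain ⟨n, h4, h2⟩ := exists_pow_four hG hne
    apply h2
    have h1 : MulAut.conj x (c ^ n) = c ^ n := by
      rw [MulAut.conj_apply, ← (hc _ x h4).eq, mul_inv_cancel_right]
    rw [map_pow, hinv, inv_pow] at h1
    rw [pow_two]
    nth_rw 1 [← h1]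
    rw [inv_mul_cancel]
  rw [commute_iff_eq, ← QuotientGroup.mk_mul, ← QuotientGroup.mk_mul, QuotientGroup.eq]
  have e : (x * y)⁻¹ * (y * x) = (y * x)⁻¹ * c⁻¹ * (y * x) := by rw [← hcdef]; group
  rw [e]
  have := (omega_normal hc).conj_mem c⁻¹ (inv_mem ((mem_omega hc).2 hc2)) (y * x)⁻¹
  simpa using this

theorem card_quot_lt [Finite G] (hG : IsPGroup 2 G) [Nontrivial G] :
    Nat.card (G ⧸ omega G hc) < Nat.card G := by
  obtain ⟨x, hx⟩ := exists_ne (1 : G)
  obtain ⟨w, hw2, hw1⟩ : ∃ w : G, w ^ 2 = 1 ∧ w ≠ 1 := by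
    by_cases h : x ^ 2 = 1
    · exact ⟨x, h, hx⟩
    · obtain ⟨n, h4, h2⟩ := exists_pow_four hG h
      exact ⟨(x ^ n) ^ 2, by rw [← pow_mul]; exact h4, h2⟩
  have h1 : omega G hc ≠ ⊥ := fun h => hw1 (by
    have : w ∈ omega G hc := (mem_omega hc).2 hw2
    rwa [h, Subgroup.mem_bot] at this)
  have h2 : 1 < Nat.card (omega G hc) := (Subgroup.one_lt_card_iff_ne_bot _).2 h1
  rw [Subgroup.card_eq_card_quotient_mul_card_subgroup (omega G hc)]
  exact lt_mul_of_one_lt_right Nat.card_pos h2

end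

theorem sq_inj_aux : ∀ (n : ℕ) {G : Type*} [Group G] [Finite G], Nat.card G ≤ n → IsPGroup 2 G →
    (∀ x y : G, x ^ 4 = 1 → Commute x y) → ∀ x y : G, x ^ 2 = y ^ 2 → (x * y⁻¹) ^ 2 = 1 := by
  intro n
  induction n using Nat.strong_induction_on with
  | _ n ih =>
    intro G _ _ hn hG hc x y hxy
    rcases subsingleton_or_nontrivial G with h | h
    · exact Subsingleton.elim _ _
    have h4 : (x * y⁻¹) ^ 4 = 1 := by
      refine four_of_quot hc ?_
      rw [QuotientGroup.mk_mul, QuotientGroup.mk_inv]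
      exact ih _ (lt_of_lt_of_le (card_quot_lt hc hG) hn) le_rfl (hG.to_quotient _)
        (quot_hyp hc hG) _ _ (by rw [← QuotientGroup.mk_pow, ← QuotientGroup.mk_pow, hxy])
    have e : x ^ 2 = (x * y⁻¹) ^ 2 * y ^ 2 := by
      rw [← (hc _ y h4).mul_pow, inv_mul_cancel_right]
    rw [hxy] at e
    exact (mul_eq_right.1 e.symm)

/-- Squaring separates the cosets of the involutions. -/
theorem sq_inj [Finite G] (hG : IsPGroup 2 G) (hc : ∀ x y : G, x ^ 4 = 1 → Commute x y) (x y : G)
    (h : x ^ 2 = y ^ 2) : (x * y⁻¹) ^ 2 = 1 :=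
  sq_inj_aux _ le_rfl hG hc x y h

/-- Squares congruent modulo involutions come from elements congruent modulo order four. -/
theorem sq_inj_mod [Finite G] (hG : IsPGroup 2 G) (hc : ∀ x y : G, x ^ 4 = 1 → Commute x y) (x y : G)
    (h : ((x ^ 2)⁻¹ * y ^ 2) ^ 2 = 1) : (x * y⁻¹) ^ 4 = 1 := by
  refine four_of_quot hc ?_
  rw [QuotientGroup.mk_mul, QuotientGroup.mk_inv]
  refine sq_inj (hG.to_quotient _) (quot_hyp hc hG) _ _ ?_
  rw [← QuotientGroup.mk_pow, ← QuotientGroup.mk_pow, QuotientGroup.eq]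
  exact (mem_omega hc).2 h

theorem exists_index_two {G : Type*} [Group G] [Finite G] {N : Subgroup G} {z : G}
    (hsq : ∀ x, x ^ 2 ∈ N) (hz : z ∉ N) : ∃ M : Subgroup G, N ≤ M ∧ z ∉ M ∧ M.index = 2 := by
  obtain ⟨M, hNM, hM⟩ := Finite.exists_le_maximal (p := fun M : Subgroup G => z ∉ M) hz
  refine ⟨M, hNM, hM.1, Subgroup.index_eq_two_iff.2 ⟨z, fun b => ?_⟩⟩
  have hnorm : M.Normal := by
    refine ⟨fun m hm g => ?_⟩
    have h1 : g * m * g⁻¹ = (g * m) ^ 2 * m⁻¹ * (g ^ 2)⁻¹ := by
      simp only [pow_two]; group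
    rw [h1]
    exact mul_mem (mul_mem (hNM (hsq _)) (inv_mem hm)) (inv_mem (hNM (hsq _)))
  have hz2 : z * z ∈ M := by rw [← pow_two]; exact hNM (hsq z)
  by_cases hb : b ∈ M
  · exact Or.inr ⟨hb, fun h => hM.1 ((M.mul_mem_cancel_left hb).1 h)⟩
  · refine Or.inl ⟨?_, hb⟩
    have hzm : z ∈ M ⊔ Subgroup.zpowers b := by
      by_contra hn
      exact hb (hM.le_of_ge hn le_sup_left (Subgroup.mem_sup_right (Subgroup.mem_zpowers b)))
    obtain ⟨m, hm, w, ⟨i, rfl⟩, hmw⟩ := Subgroup.mem_sup_of_normal_left.1 hzm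
    have hb2 : b ^ 2 ∈ M := hNM (hsq b)
    dsimp only at hmw
    rcases Int.even_or_odd' i with ⟨j, rfl | rfl⟩
    · exfalso
      refine hM.1 ?_
      rw [← hmw, zpow_mul, show b ^ (2 : ℤ) = b ^ 2 from zpow_natCast b 2]
      exact mul_mem hm (zpow_mem hb2 j)
    · have hj : (b ^ (2 * j)) ∈ M := by
        rw [zpow_mul, show b ^ (2 : ℤ) = b ^ 2 from zpow_natCast b 2]
        exact zpow_mem hb2 j
      rw [zpow_add, zpow_one, ← mul_assoc] at hmw
      have hbz : b = (m * b ^ (2 * j))⁻¹ * z := by rw [← hmw]; group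
      rw [hbz, mul_assoc]
      exact mul_mem (inv_mem (mul_mem hm hj)) hz2

theorem index_le_aux : ∀ (n : ℕ) {G : Type*} [Group G] [Finite G], Nat.card G ≤ n → IsPGroup 2 G →
    (∀ x y : G, x ^ 4 = 1 → Commute x y) → ∀ N : Subgroup G, (∀ x : G, x ^ 2 ∈ N) →
      N.index ≤ Nat.card {x : G // x ^ 2 = 1} := by
  intro n
  induction n using Nat.strong_induction_on with
  | _ n ih =>
    intro G _ _ hn hG hc N hsq
    classical
    rcases subsingleton_or_nontrivial G with h | h
    · rw [Subgroup.eq_top_of_card_eq N (by rw [Nat.card_of_subsingleton (1 : N),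
        Nat.card_of_subsingleton (1 : G)]), Subgroup.index_top]
      haveI : Nonempty {x : G // x ^ 2 = 1} := ⟨⟨1, one_pow 2⟩⟩
      exact Nat.card_pos
    by_cases hle : omega G hc ≤ N
    · have h1 := ih _ (lt_of_lt_of_le (card_quot_lt hc hG) hn) le_rfl (hG.to_quotient _)
        (quot_hyp hc hG) (N.map (QuotientGroup.mk' (omega G hc))) (fun q => by
          induction q using QuotientGroup.induction_on with | H x =>
          exact ⟨x ^ 2, hsq x, map_pow _ _ _⟩)
      rw [Subgroup.index_map_eq N (QuotientGroup.mk'_surjective _) (by rwa [QuotientGroup.ker_mk'])] at h1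
      refine h1.trans (Nat.card_le_card_of_injective (fun q => (⟨(Quotient.out q.1) ^ 2, ?_⟩ :
        {x : G // x ^ 2 = 1})) ?_)
      · rw [← pow_mul]
        exact four_of_quot hc (by rw [QuotientGroup.out_eq']; exact q.2)
      · intro p q hpq
        have e : (Quotient.out p.1) ^ 2 = (Quotient.out q.1) ^ 2 := congrArg Subtype.val hpq
        have hp : (Quotient.out p.1 : G) ^ 4 = 1 := four_of_quot hc (by rw [QuotientGroup.out_eq']; exact p.2)
        apply Subtype.ext
        rw [← QuotientGroup.out_eq' p.1, ← QuotientGroup.out_eq' q.1, QuotientGroup.eq, mem_omega,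
          ((hc _ _ hp).inv_left).mul_pow, inv_pow, e, inv_mul_cancel]
    · obtain ⟨z, hz2, hzN⟩ := SetLike.not_le_iff_exists.1 hle
      obtain ⟨M, hNM, hzM, hM2⟩ := exists_index_two hsq hzN
      have hMlt : Nat.card M < Nat.card G := by
        rw [← M.card_mul_index, hM2]
        have := Nat.card_pos (α := M)
        omega
      have h1 := ih _ (lt_of_lt_of_le hMlt hn) le_rfl (hG.to_subgroup M)
        (fun x y hx => Subtype.ext (hc x.1 y.1 (by simpa using congrArg Subtype.val hx)).eq)
        (N.subgroupOf M) (fun x => Subgroup.mem_subgroupOf.2 (by simpa using hsq x.1))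
      have h2 : N.index = N.relIndex M * 2 := by rw [← hM2, Subgroup.relIndex_mul_index hNM]
      have h3 : Nat.card ({x : M // x ^ 2 = 1} × Bool) ≤ Nat.card {x : G // x ^ 2 = 1} := by
        have hmem : ∀ (x : {x : M // x ^ 2 = 1}), (x.1.1) ^ 2 = 1 := fun x => by
          simpa using congrArg Subtype.val x.2
        refine Nat.card_le_card_of_injective
          (fun p => (⟨(if p.2 then z else 1) * p.1.1.1, ?_⟩ : {x : G // x ^ 2 = 1})) ?_
        · cases p.2 with
          | true => exact (mem_omega hc).1 (mul_mem hz2 ((mem_omega hc).2 (hmem p.1)))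
          | false => simpa using hmem p.1
        · rintro ⟨x, a⟩ ⟨y, b⟩ hxy
          have e := congrArg Subtype.val hxy
          cases a <;> cases b <;> simp at e
          · exact Prod.ext (Subtype.ext e) rfl
          · exact absurd (by rw [show z = x.1.1 * (y.1.1)⁻¹ by rw [e]; group]
                             exact mul_mem x.1.2 (inv_mem y.1.2)) hzM
          · exact absurd (by rw [show z = y.1.1 * (x.1.1)⁻¹ by rw [← e]; group]
                             exact mul_mem y.1.2 (inv_mem x.1.2)) hzM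
          · exact Prod.ext (Subtype.ext e) rfl
      rw [Nat.card_prod, Nat.card_eq_fintype_card (α := Bool), Fintype.card_bool] at h3
      rw [h2]
      exact le_trans (Nat.mul_le_mul_right 2 h1) h3

/-- An elementary abelian quotient is no larger than the set of involutions and the identity. -/
theorem index_le [Finite G] (hG : IsPGroup 2 G) (hc : ∀ x y : G, x ^ 4 = 1 → Commute x y)
    (N : Subgroup G) (hsq : ∀ x, x ^ 2 ∈ N) : N.index ≤ Nat.card {x : G // x ^ 2 = 1} :=
  index_le_aux _ le_rfl hG hc N hsq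

end Cfsg.Agent.Lib.SectionalFour
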