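import Cfsg.Agent.Lib.SectionalFour.Central

/-!
Counting lemmas for images in elementary abelian sections.
-/

set_option autoImplicit false
set_option linter.style.haveILetI false

namespace Cfsg.Agent.Lib.SectionalFour

theorem index_le_of_map {G : Type*} [Group G] (L : Subgroup G) {X : Type*} [Finite X] (f : G → X)
    (h : ∀ a b, f a = f b → a⁻¹ * b ∈ L) : L.index ≤ Nat.card X := by
  rw [Subgroup.index_eq_card]
  refine Nat.card_le_card_of_injective (fun q => f (Quotient.out q)) fun p q hpq => ?_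
  rw [← QuotientGroup.out_eq' p, ← QuotientGroup.out_eq' q]
  exact QuotientGroup.eq.2 (h _ _ hpq)

theorem index_map_two_le {G W : Type*} [Group G] [Finite G] [Group W] {φ : G →* W}
    (hφ : Function.Surjective φ) {L : Subgroup G} (h : ¬ φ.ker ≤ L) :
    (L.map φ).index * 2 ≤ L.index := by
  rw [Subgroup.index_map, MonoidHom.range_eq_top.2 hφ, Subgroup.index_top, mul_one,
    ← Subgroup.relIndex_mul_index (le_sup_left : L ≤ L ⊔ φ.ker), mul_comm]
  refine Nat.mul_le_mul_right _ ?_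
  have h1 : L.relIndex (L ⊔ φ.ker) ≠ 1 := fun he =>
    h (le_sup_right.trans (Subgroup.relIndex_eq_one.1 he))
  have h0 : L.relIndex (L ⊔ φ.ker) ≠ 0 := Subgroup.index_ne_zero_of_finite
  omega

variable {G W : Type*} [Group G] [Finite G] [Group W]

theorem card_range_le (hG : IsPGroup 2 G) (hc : ∀ x y : G, x ^ 4 = 1 → Commute x y) (ψ : G →* W)
    (hW : ∀ w : W, w ^ 2 = 1) : Nat.card ψ.range ≤ Nat.card {x : G // x ^ 2 = 1} := by
  rw [← Subgroup.index_ker]
  exact index_le hG hc _ fun x => by rw [MonoidHom.mem_ker, map_pow, hW]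

theorem exists_sq [Finite W] (hG : IsPGroup 2 G) (hc : ∀ x y : G, x ^ 4 = 1 → Commute x y) (ψ : G →* W)
    (hW : ∀ w : W, w ^ 2 = 1) (hle : Nat.card {x : G // x ^ 2 = 1} ≤ Nat.card ψ.range)
    {g : G} (hg : g ∈ ψ.ker) : ∃ l : G, l ^ 2 = g := by
  let S : Set G := Set.range fun x : G => x ^ 2
  have hsub : S ⊆ (ψ.ker : Set G) := by
    rintro _ ⟨x, rfl⟩
    show x ^ 2 ∈ ψ.ker
    rw [MonoidHom.mem_ker, map_pow, hW]
  have h1 : Nat.card G ≤ Nat.card (S × {x : G // x ^ 2 = 1}) := by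
    let r : S → G := fun s => Classical.choose s.2
    have hr : ∀ s : S, r s ^ 2 = s.1 := fun s => Classical.choose_spec s.2
    refine Nat.card_le_card_of_injective
      (fun x => ((⟨x ^ 2, x, rfl⟩ : S), ⟨x * (r ⟨x ^ 2, x, rfl⟩)⁻¹, sq_inj hG hc _ _ (hr ⟨x ^ 2, x, rfl⟩).symm⟩)) ?_
    intro a b hab
    simp only [Prod.mk.injEq, Subtype.mk.injEq] at hab
    obtain ⟨e1, e2⟩ := hab
    have : r (⟨a ^ 2, a, rfl⟩ : S) = r ⟨b ^ 2, b, rfl⟩ := congrArg r e1
    rw [this] at e2
    exact mul_right_cancel e2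
  rw [Nat.card_prod, ← ψ.ker.card_mul_index, Subgroup.index_ker] at h1
  have hpos : 0 < Nat.card ψ.range := Nat.card_pos
  have h2 : Nat.card ψ.ker ≤ Nat.card S :=
    Nat.le_of_mul_le_mul_right (h1.trans (Nat.mul_le_mul_left _ hle)) hpos
  have heq : S = (ψ.ker : Set G) := Set.eq_of_subset_of_ncard_le hsub (by
    rw [← Nat.card_coe_set_eq, ← Nat.card_coe_set_eq]; exact h2) (Set.toFinite _)
  have hgS : g ∈ S := by rw [heq]; exact hg
  exact hgS

end Cfsg.Agent.Lib.SectionalFour
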