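import Cfsg.Agent.Lib.SectionalFour.Frame

/-!
The two contradictions in the case of a normal subgroup of type (4, 4).
-/

set_option autoImplicit false
set_option linter.style.haveILetI false

namespace Cfsg.Agent.Lib.SectionalFour.Frame

variable {P : Type*} [Group P] (F : Frame P)

/-- An element whose matrix has no eigenvalue one can be changed by `A` into an involution. -/
theorem adjust {z : P} {v : Mat} (h : F.Rep z v) (hv : InjOne v) (hz : z ^ 2 ∈ F.E) :
    ∃ a ∈ F.A, (z * a) ^ 2 = 1 := by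
  obtain ⟨t, ht⟩ := F.exists_iota hz
  obtain ⟨w, hw⟩ := injOne_surj v hv t
  obtain ⟨a, ha, e⟩ := F.sq_surj w
  refine ⟨a, ha, ?_⟩
  have e1 : (z * a) ^ 2 = z * a * z⁻¹ * (z ^ 2 * a) := by simp only [pow_two]; group
  rw [e1, h a ha w e.symm, ← ht, ← (F.comm_E ha t).eq,
    show F.ι (combo w v) * a * (a * F.ι t) = F.ι (combo w v) * a ^ 2 * F.ι t by
      simp only [pow_two, mul_assoc],
    e, ← F.map_add, hw, ← F.map_add, add_self_four, F.iota_zero]

/-- Involutions with the same matrix agree modulo `E`. -/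
theorem invol_unique {z w : P} {v : Mat} (h : F.Rep z v) (h' : F.Rep w v) (hv : InjOne v)
    (hz : z ^ 2 = 1) (hw : w ^ 2 = 1) (hclose : ∀ c ∈ F.C, (z * c) ^ 2 = 1 → c ∈ F.A) :
    z⁻¹ * w ∈ F.E := by
  have hc := F.rep_div h h'
  have h2 : (z * (z⁻¹ * w)) ^ 2 = 1 := by rw [mul_inv_cancel_left]; exact hw
  have hA := hclose _ hc h2
  generalize hcd : z⁻¹ * w = c at hA h2
  obtain ⟨t, ht⟩ := F.sq_mem c hA
  have e1 : (z * c) ^ 2 = z * c * z⁻¹ * z ^ 2 * c := by simp only [pow_two]; group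
  rw [e1, hz, mul_one, h c hA t ht, mul_assoc, ← pow_two, ← ht, ← F.map_add, ← F.iota_zero] at h2
  refine ⟨hA, ?_⟩
  rw [← ht, hv t (F.inj h2), F.iota_zero]

/-- An involution modulo `E` with fixed matrix gives a normal elementary subgroup of order above four. -/
theorem final [Finite P] {z : P} {v : Mat} (h : F.Rep z v) (hv : InjOne v) (hv0 : v ≠ 0)
    (hz : z ^ 2 ∈ F.E) (hclose : ∀ c ∈ F.C, (z * c) ^ 2 = 1 → c ∈ F.A)
    (hfix : (∀ p, p ∈ F.R) ∨ tw v = v) : False := by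
  obtain ⟨a, ha, hza⟩ := F.adjust h hv hz
  have h' := F.rep_mul_C h (F.A_le_C ha)
  have hclose' : ∀ c ∈ F.C, (z * a * c) ^ 2 = 1 → c ∈ F.A := fun c hc hc2 => by
    have := hclose (a * c) (mul_mem (F.A_le_C ha) hc) (by rwa [← mul_assoc])
    exact (F.A.mul_mem_cancel_left ha).1 this
  generalize z * a = y at h' hza hclose'
  have hEn := F.E_normal
  let B := F.E ⊔ Subgroup.zpowers y
  have hR := F.rep_mem_R h'
  have hye : ∀ e ∈ F.E, Commute y e := fun e he => by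
    obtain ⟨t, rfl⟩ := F.exists_iota he
    exact mul_inv_eq_iff_eq_mul.1 (F.mem_R.1 hR t)
  have hyi : y⁻¹ = y := inv_eq_of_mul_eq_one_right (by rw [← pow_two, hza])
  have hmem : ∀ u ∈ B, ∃ e ∈ F.E, u = e ∨ u = e * y := fun u hu => by
    obtain ⟨e, he, w, ⟨i, rfl⟩, rfl⟩ := Subgroup.mem_sup_of_normal_left.1 hu
    refine ⟨e, he, ?_⟩
    change e * y ^ i = e ∨ e * y ^ i = e * y
    rcases Int.even_or_odd' i with ⟨j, rfl | rfl⟩
    · left; rw [zpow_mul, zpow_ofNat, hza, one_zpow, mul_one]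
    · right; rw [zpow_add, zpow_mul, zpow_ofNat, hza, one_zpow, one_mul, zpow_one]
  have hcE : ∀ e ∈ F.E, ∀ e' ∈ F.E, Commute e e' := fun e he e' he' => F.comm e he.1 e' he'.1
  have hy : y ∈ B := Subgroup.mem_sup_right (Subgroup.mem_zpowers y)
  have hcommB : ∀ u ∈ B, ∀ w ∈ B, u * w = w * u := by
    intro u hu w hw
    obtain ⟨e, he, rfl | rfl⟩ := hmem u hu <;> obtain ⟨e', he', rfl | rfl⟩ := hmem w hw
    · exact hcE _ he _ he'
    · exact ((hcE _ he _ he').mul_right (hye _ he).symm).eq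
    · exact ((hcE _ he _ he').mul_left (hye _ he')).eq
    · exact (((hcE _ he _ he').mul_left (hye _ he')).mul_right
        ((hye _ he).symm.mul_left (Commute.refl y))).eq
  have hsqB : ∀ u ∈ B, u ^ 2 = 1 := by
    intro u hu
    obtain ⟨e, he, rfl | rfl⟩ := hmem u hu
    · exact he.2
    · rw [(hye e he).symm.mul_pow, he.2, hza, one_mul]
  have hnorm : B.Normal := by
    refine ⟨fun u hu p => ?_⟩
    have hc := F.invol_unique h' (F.rep_conj_fixed h' hfix p) hv hza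
      (by rw [conj_pow, hza, mul_one, mul_inv_cancel]) hclose'
    have hyp : p * y * p⁻¹ ∈ B := by
      rw [show p * y * p⁻¹ = y * (y⁻¹ * (p * y * p⁻¹)) by group]
      exact mul_mem hy (Subgroup.mem_sup_left hc)
    obtain ⟨e, he, rfl | rfl⟩ := hmem u hu
    · exact Subgroup.mem_sup_left (hEn.conj_mem _ he p)
    · rw [show p * (e * y) * p⁻¹ = (p * e * p⁻¹) * (p * y * p⁻¹) by group]
      exact mul_mem (Subgroup.mem_sup_left (hEn.conj_mem _ he p)) hyp
  have hyE : y ∉ F.E := fun hE => hv0 (F.rep_unique h' (F.rep_zero_iff.2 (F.A_le_C hE.1)))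
  have hcard := F.small B hnorm hcommB hsqB
  have hEc : 4 ≤ Nat.card F.E := by
    have : Nat.card Four ≤ Nat.card F.E := Nat.card_le_card_of_injective
      (fun v => (⟨F.ι v, F.iota_E v⟩ : F.E)) fun a b hab => F.inj (congrArg Subtype.val hab)
    rwa [Nat.card_eq_fintype_card, show Fintype.card Four = 4 from rfl] at this
  have heq : F.E = B := Subgroup.eq_of_le_of_card_ge le_sup_left (hcard.trans hEc)
  exact hyE (heq ▸ hy)

/-- The matrices with no eigenvalue force a contradiction. -/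
theorem case_a [Finite P] (h : matW ∈ F.mats ⊤ ∨ matW' ∈ F.mats ⊤)
    (hN : (∀ p, p ∈ F.R) ∨ matN ∈ F.mats ⊤) : False := by
  obtain ⟨v, hv, hvi, hvo, hv0⟩ : ∃ v ∈ F.mats ⊤, Inj v ∧ InjOne v ∧ v ≠ 0 := by
    rcases h with h | h
    · exact ⟨_, h, matW_inj.1, matW_inj.2.1, matW_inj.2.2.2.2.1⟩
    · exact ⟨_, h, matW_inj.2.2.2.1, matW_inj.2.2.1, matW_inj.2.2.2.2.2⟩
  obtain ⟨u, -, hu⟩ := hv
  have hCA := F.C_le_A hu hvi hvo
  have hclose : ∀ (y : P), ∀ c ∈ F.C, (y * c) ^ 2 = 1 → c ∈ F.A := fun _ c hc _ => hCA hc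
  by_cases hall : ∀ p, p ∈ F.R
  · exact F.final hu hvo hv0 (F.inj_sq hu hvi) (hclose u) (Or.inl hall)
  push Not at hall
  obtain ⟨s, hs⟩ := hall
  obtain ⟨y, -, hy⟩ := hN.resolve_left fun h => hs (h s)
  obtain ⟨w, -, hw⟩ : matW ∈ F.mats ⊤ := by
    rcases h with h | ⟨x, -, hx⟩
    · exact h
    · have := F.rep_conj_shear hx hs
      rw [show tw matW' = matW by decide] at this
      exact ⟨_, Subgroup.mem_top _, this⟩
  obtain ⟨a, ha, hz⟩ := F.adjust hw matW_inj.2.1 (F.inj_sq hw matW_inj.1)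
  have hrz := F.rep_mul_C hw (F.A_le_C ha)
  generalize w * a = z at hz hrz
  have hrz' : F.Rep (s * z * s⁻¹) matW' := by
    have := F.rep_conj_shear hrz hs
    rwa [matN_props.2.2.2.2.2.2.1] at this
  have hz' : (s * z * s⁻¹) ^ 2 = 1 := by rw [conj_pow, hz, mul_one, mul_inv_cancel]
  generalize s * z * s⁻¹ = z' at hrz' hz'
  have hx : F.Rep (z * z') matI := by
    have := F.rep_mul hrz hrz'
    rwa [matN_props.2.2.2.2.2.2.2] at this
  have hR' := F.rep_mem_R hrz'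
  obtain ⟨e1, he1⟩ := F.exists_iota (F.invol_unique hrz (F.rep_conj_R hrz hR') matW_inj.2.1 hz
    (by rw [conj_pow, hz, mul_one, mul_inv_cancel]) (hclose z))
  have hzi : z⁻¹ = z := inv_eq_of_mul_eq_one_right (by rw [← pow_two, hz])
  have hzi' : z'⁻¹ = z' := inv_eq_of_mul_eq_one_right (by rw [← pow_two, hz'])
  have hx2 : (z * z') ^ 2 = F.ι e1 := by
    rw [he1, hzi, hzi']; simp only [pow_two, mul_assoc]
  have hyR := F.rep_mem_R hy
  obtain ⟨e2, he2⟩ := F.exists_iota (F.invol_unique hrz (F.rep_conj_R hrz hyR) matW_inj.2.1 hz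
    (by rw [conj_pow, hz, mul_one, mul_inv_cancel]) (hclose z))
  obtain ⟨e3, he3⟩ := F.exists_iota (F.invol_unique hrz' (F.rep_conj_R hrz' hyR) matW_inj.2.2.1 hz'
    (by rw [conj_pow, hz', mul_one, mul_inv_cancel]) (hclose z'))
  have hxy := F.rep_mul hx hy
  have hu2 := F.inj_sq hxy matN_props.2.2.1
  have hconj : y * (z * z') * y⁻¹ = z * z' * F.ι (e2 + e3) := by
    rw [F.map_add, show y * (z * z') * y⁻¹ = (y * z * y⁻¹) * (y * z' * y⁻¹) by group,
      show y * z * y⁻¹ = z * F.ι e2 by rw [he2, mul_inv_cancel_left],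
      show y * z' * y⁻¹ = z' * F.ι e3 by rw [he3, mul_inv_cancel_left],
      show z * F.ι e2 * (z' * F.ι e3) = z * (F.ι e2 * z') * F.ι e3 by simp only [mul_assoc],
      ← show z' * F.ι e2 = F.ι e2 * z' from mul_inv_eq_iff_eq_mul.1 (F.mem_R.1 hR' e2)]
    simp only [mul_assoc]
  have e : (z * z' * y) ^ 2 = F.ι e1 * F.ι (e2 + e3) * y ^ 2 := by
    rw [← hx2, show (z * z' * y) ^ 2 = z * z' * (y * (z * z') * y⁻¹) * y ^ 2 by
      simp only [pow_two]; group, hconj]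
    simp only [pow_two, mul_assoc]
  have hy2 : y ^ 2 ∈ F.E := by
    rw [e] at hu2
    exact (F.E.mul_mem_cancel_left (mul_mem (F.iota_E _) (F.iota_E _))).1 hu2
  exact F.final hy matN_props.1 matN_props.2.1 hy2 (hclose y) (Or.inr matN_props.2.2.2.2.1)

/-- The finishing contradiction from a companion of the identity matrix and a square root in `C`. -/
theorem case_b [Finite P] {x y l : P} {n : Mat} (hx : F.Rep x matI) (hy : F.Rep y n) (hn : Comp n)
    (hfix : (∀ p, p ∈ F.R) ∨ tw n = n) (hl : l ∈ F.C) (hly : l ^ 2 = y ^ 2) : False := by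
  have hu := F.rep_mul hx hy
  have hE := F.E_normal
  have hcentral : ∀ e ∈ F.E, ∀ c ∈ F.C, Commute e c := fun e he c hc => (F.mem_C.1 hc e he.1).symm
  have hcen : ∀ c ∈ F.C, ∃ e ∈ F.E, y * c * y⁻¹ = e * c := by
    intro c hc
    have he := F.inj_inv hu hn.2.2 hc
    generalize hed : x * y * c * (x * y)⁻¹ * c = e at he
    have he' := F.inj_inv (F.rep_inv hx) matN_props.2.2.2.1 hc
    rw [inv_inv] at he'
    generalize hed' : x⁻¹ * c * x * c = e' at he'
    have he3 : x⁻¹ * e * x ∈ F.E := hE.conj_mem' e he x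
    refine ⟨x⁻¹ * e * x * e'⁻¹, mul_mem he3 (inv_mem he'), ?_⟩
    calc y * c * y⁻¹ = x⁻¹ * (x * y * c * (x * y)⁻¹) * x := by group
      _ = x⁻¹ * (e * c⁻¹) * x := by rw [← hed, mul_inv_cancel_right]
      _ = (x⁻¹ * e * x) * (x⁻¹ * c * x)⁻¹ := by group
      _ = (x⁻¹ * e * x) * (c * e'⁻¹) := by rw [← hed']; group
      _ = _ := by rw [← (hcentral _ (inv_mem he') c hc).eq]; simp only [mul_assoc]
  obtain ⟨f, hf, hfy⟩ := hcen l⁻¹ (inv_mem hl)
  have hz : F.Rep (y * l⁻¹) n := F.rep_mul_C hy (inv_mem hl)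
  have hz2 : (y * l⁻¹) ^ 2 = f := by
    rw [show (y * l⁻¹) ^ 2 = y * l⁻¹ * y⁻¹ * (y ^ 2 * l⁻¹) by simp only [pow_two]; group, hfy, ← hly,
      show f * l⁻¹ * (l ^ 2 * l⁻¹) = f by simp only [pow_two]; group]
  refine F.final hz hn.1 hn.2.1 (hz2 ▸ hf) (fun c hc h2 => ?_) hfix
  have hd : l⁻¹ * c ∈ F.C := mul_mem (inv_mem hl) hc
  generalize hdd : l⁻¹ * c = d at hd
  rw [mul_assoc, hdd] at h2
  obtain ⟨e, he, hed⟩ := hcen d hd
  have h3 : e * (y ^ 2 * d ^ 2) = 1 := by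
    have hyd : Commute d (y ^ 2) := by
      have h5 : y * (y * d * y⁻¹) * y⁻¹ = y * e * y⁻¹ * (y * d * y⁻¹) := by nth_rw 1 [hed]; group
      have h6 : y * e * y⁻¹ = e := by
        obtain ⟨t, rfl⟩ := F.exists_iota he
        exact F.mem_R.1 (F.rep_mem_R hy) t
      rw [h6, hed, ← mul_assoc e, ← pow_two e, he.2, one_mul] at h5
      rw [commute_iff_eq]
      calc d * y ^ 2 = y * (e * d) * y⁻¹ * y ^ 2 := by rw [h5]
        _ = y ^ 2 * d := by rw [← hed]; simp only [pow_two]; group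
    rw [← h2, show (y * d) ^ 2 = y * d * y⁻¹ * (y ^ 2 * d) by simp only [pow_two]; group, hed, mul_assoc,
      ← mul_assoc d, hyd.eq]
    simp only [pow_two, mul_assoc]
  have h4 : ((d ^ 2)⁻¹ * (l⁻¹) ^ 2) ^ 2 = 1 := by
    rw [inv_pow, ← mul_inv_rev, hly, show y ^ 2 * d ^ 2 = e⁻¹ from eq_inv_of_mul_eq_one_right h3, inv_inv]
    exact he.2
  have h7 := sq_inj_mod (F.hP.to_subgroup F.C) F.C_hyp ⟨d, hd⟩ ⟨l⁻¹, inv_mem hl⟩
    (Subtype.ext (by simpa using h4))
  have h8 : (d * l) ^ 4 = 1 := by simpa using congrArg Subtype.val h7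
  have hA := F.C_four (mul_mem hd hl) h8
  have e' : c = l * (d * l) * l⁻¹ := by rw [← hdd]; group
  rw [e', F.mem_C.1 hl _ hA, mul_inv_cancel_right]
  exact hA

end Cfsg.Agent.Lib.SectionalFour.Frame
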