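import Mathlib

/-!
Finite linear algebra of 2 by 2 matrices over the field with two elements.
-/

set_option autoImplicit false

namespace Cfsg.Agent.Lib.SectionalFour

/-- Coordinates of the four group. -/
abbrev Four := ZMod 2 × ZMod 2

/-- A matrix, given by its two columns. -/
abbrev Mat := Four × Four

/-- The value of the matrix `v` at the vector `w`. -/
def combo (w : Four) (v : Mat) : Four :=
  (w.1 * v.1.1 + w.2 * v.2.1, w.1 * v.1.2 + w.2 * v.2.2)

/-- The transvection of the four group. -/
def shear (w : Four) : Four := (w.1 + w.2, w.2)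

/-- Conjugation of matrices by the transvection. -/
def tw (v : Mat) : Mat := (shear v.1, shear (v.1 + v.2))

/-- The matrix is injective. -/
def Inj (v : Mat) : Prop := ∀ w : Four, combo w v = 0 → w = 0

/-- The matrix plus the identity is injective. -/
def InjOne (v : Mat) : Prop := ∀ w : Four, combo w v + w = 0 → w = 0

instance : DecidablePred Inj := fun _ => by unfold Inj; infer_instance
instance : DecidablePred InjOne := fun _ => by unfold InjOne; infer_instance

def matI : Mat := ((1, 0), (0, 1))
def matN : Mat := ((0, 0), (1, 0))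
def matW : Mat := ((0, 1), (1, 1))
def matW' : Mat := ((1, 1), (1, 0))

theorem shear_shear : ∀ w, shear (shear w) = w := by decide
theorem shear_add : ∀ u w, shear (u + w) = shear u + shear w := by decide
theorem tw_combo : ∀ w v, shear (combo (shear w) v) = combo w (tw v) := by decide
theorem tw_tw : ∀ v, tw (tw v) = v := by decide
theorem combo_zero : ∀ v, combo 0 v = 0 := by decide
theorem combo_add : ∀ u w v, combo (u + w) v = combo u v + combo w v := by decide
theorem combo_add_right : ∀ w v v', combo w (v + v') = combo w v + combo w v' := by decide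
theorem combo_zero_right : ∀ w, combo w 0 = 0 := by decide
theorem combo_left : ∀ v, combo (1, 0) v = v.1 ∧ combo (0, 1) v = v.2 := by decide
theorem four_cases : ∀ w : Four, w = 0 ∨ w = (1, 0) ∨ w = (0, 1) ∨ w = (1, 0) + (0, 1) := by decide
theorem add_self_four : ∀ w : Four, w + w = 0 := by decide
theorem add_self_mat : ∀ v : Mat, v + v = 0 := by decide
theorem neg_mat : ∀ v : Mat, -v = v := by decide
theorem injOne_surj : ∀ v, InjOne v → ∀ t, ∃ w, combo w v + w = t := by decide
theorem matW_inj : Inj matW ∧ InjOne matW ∧ InjOne matW' ∧ Inj matW' ∧ matW ≠ 0 ∧ matW' ≠ 0 := by decide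
theorem matN_props : InjOne matN ∧ matN ≠ 0 ∧ Inj (matI + matN) ∧ Inj matI ∧ tw matN = matN ∧
    tw matI = matI ∧ tw matW = matW' ∧ matW + matW' = matI := by decide
theorem fixed_card : (Finset.univ.filter fun v : Mat => tw v = v).card = 4 := by decide

/-- A candidate companion of the identity matrix. -/
def Comp (n : Mat) : Prop := InjOne n ∧ n ≠ 0 ∧ Inj (matI + n)

instance : DecidablePred Comp := fun _ => by unfold Comp; infer_instance

/-- The linear functional with coefficients `d`. -/
def func (d : Mat) (v : Mat) : ZMod 2 :=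
  d.1.1 * v.1.1 + d.1.2 * v.1.2 + d.2.1 * v.2.1 + d.2.2 * v.2.2

theorem func_dichotomy : ∀ d : Mat,
    func d matW = 0 ∨ func d matW' = 0 ∨ (func d matI = 0 ∧ ∃ n, Comp n ∧ func d n = 0) := by
  decide

theorem func_twisted : ∀ d : Mat, (∃ v, func d v = 0 ∧ func d (tw v) ≠ 0) ∨
    (func d matN = 0 ∧ (func d matW = 0 ∨ func d matW' = 0 ∨ func d matI = 0)) := by decide

/-- An additive subgroup of index at most two contains the kernel of a functional. -/
theorem exists_func (V : AddSubgroup Mat) (hV : 8 ≤ Nat.card V) :
    ∃ d : Mat, (∀ v, func d v = 0 → v ∈ V) ∧ ((∃ v ∈ V, func d v ≠ 0) → V = ⊤) := by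
  classical
  have hK : Nat.card Mat = 16 := by rw [Nat.card_eq_fintype_card]; decide
  have hci : Nat.card V * V.index = 16 := by rw [V.card_mul_index, hK]
  have hi : V.index = 1 ∨ V.index = 2 := by
    have h0 : V.index ≠ 0 := fun h => by rw [h] at hci; omega
    have h2 : V.index ≤ 2 := by nlinarith
    omega
  rcases hi with h1 | h2
  · exact ⟨0, fun v _ => by rw [AddSubgroup.index_eq_one.1 h1]; trivial,
      fun _ => AddSubgroup.index_eq_one.1 h1⟩
  · let g : Mat → ZMod 2 := fun v => if v ∈ V then 0 else 1
    have hg : ∀ u v, g (u + v) = g u + g v := fun u v => by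
      have := AddSubgroup.add_mem_iff_of_index_two h2 (a := u) (b := v)
      simp only [g]
      by_cases hu : u ∈ V <;> by_cases hv : v ∈ V <;> simp [hu, hv, this] <;> decide
    have h0 : g 0 = 0 := by simp [g]
    have hgm : ∀ (c : ZMod 2) (e : Mat), g (c • e) = c * g e := fun c e => by
      fin_cases c
      · show g ((0 : ZMod 2) • e) = (0 : ZMod 2) * g e
        rw [zero_smul, h0, zero_mul]
      · show g ((1 : ZMod 2) • e) = (1 : ZMod 2) * g e
        rw [one_smul, one_mul]
    let d : Mat := ((g ((1, 0), 0), g ((0, 1), 0)), (g (0, (1, 0)), g (0, (0, 1))))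
    have hd : ∀ v, g v = func d v := fun v => by
      conv_lhs => rw [show v = v.1.1 • ((1, 0), 0) + v.1.2 • ((0, 1), 0) + v.2.1 • (0, (1, 0)) +
        v.2.2 • ((0, (0, 1)) : Mat) by ext <;> simp]
      simp only [hg, hgm, func, d]
      ring
    refine ⟨d, fun v hv => ?_, fun ⟨v, hv, hne⟩ => absurd ?_ hne⟩
    · by_contra hn
      rw [← hd] at hv
      simp [g, hn] at hv
    · rw [← hd]; simp [g, hv]

end Cfsg.Agent.Lib.SectionalFour
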