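import Cfsg.Agent.Lib.SectionalFour.Central
import Cfsg.Agent.Lib.SectionalFour.Pairs

/-!
A 2-group with a normal homocyclic subgroup of type (4, 4) holding every element of order dividing four
of its centralizer: coordinates for the action on that subgroup.
-/

set_option autoImplicit false
set_option linter.style.haveILetI false

namespace Cfsg.Agent.Lib.SectionalFour

/-- The data of the case of a normal subgroup of type (4, 4). -/
structure Frame (P : Type*) [Group P] where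
  A : Subgroup P
  ι : Four → P
  hP : IsPGroup 2 P
  normal : A.Normal
  comm : ∀ a ∈ A, ∀ b ∈ A, a * b = b * a
  inj : Function.Injective ι
  map_add : ∀ v w, ι (v + w) = ι v * ι w
  iota_iff : ∀ x, (x ∈ A ∧ x ^ 2 = 1) ↔ ∃ v, ι v = x
  sq_mem : ∀ a ∈ A, ∃ w, ι w = a ^ 2
  sq_surj : ∀ w, ∃ a ∈ A, a ^ 2 = ι w
  conjE : ∀ p : P, (∀ v, p * ι v * p⁻¹ = ι v) ∨ (∀ v, p * ι v * p⁻¹ = ι (shear v))
  inA : ∀ x, (∀ a ∈ A, x * a = a * x) → x ^ 4 = 1 → x ∈ A
  small : ∀ B : Subgroup P, B.Normal → (∀ a ∈ B, ∀ b ∈ B, a * b = b * a) →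
    (∀ a ∈ B, a ^ 2 = 1) → Nat.card B ≤ 4

namespace Frame

variable {P : Type*} [Group P] (F : Frame P)

theorem iota_zero : F.ι 0 = 1 := by
  have h := F.map_add 0 0
  rw [add_zero] at h
  exact left_eq_mul.1 h

theorem iota_mem (v : Four) : F.ι v ∈ F.A := ((F.iota_iff _).2 ⟨v, rfl⟩).1

theorem iota_sq (v : Four) : F.ι v ^ 2 = 1 := ((F.iota_iff _).2 ⟨v, rfl⟩).2

theorem iota_inv (v : Four) : (F.ι v)⁻¹ = F.ι v :=
  inv_eq_of_mul_eq_one_right (by rw [← pow_two, F.iota_sq])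

theorem pow_four {a : P} (ha : a ∈ F.A) : a ^ 4 = 1 := by
  obtain ⟨w, hw⟩ := F.sq_mem a ha
  rw [show 4 = 2 * 2 from rfl, pow_mul, ← hw, F.iota_sq]

/-- The involutions of `A`, with the identity. -/
def E : Subgroup P where
  carrier := {x | x ∈ F.A ∧ x ^ 2 = 1}
  one_mem' := ⟨one_mem _, one_pow 2⟩
  inv_mem' {x} hx := ⟨inv_mem hx.1, by rw [inv_pow, hx.2, inv_one]⟩
  mul_mem' {x y} hx hy :=
    ⟨mul_mem hx.1 hy.1, by rw [Commute.mul_pow (F.comm x hx.1 y hy.1 : Commute x y), hx.2, hy.2, one_mul]⟩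

theorem mem_E {x : P} : x ∈ F.E ↔ x ∈ F.A ∧ x ^ 2 = 1 := Iff.rfl

theorem exists_iota {x : P} (hx : x ∈ F.E) : ∃ v, F.ι v = x := (F.iota_iff x).1 hx

theorem iota_E (v : Four) : F.ι v ∈ F.E := (F.iota_iff _).2 ⟨v, rfl⟩

theorem E_normal : F.E.Normal :=
  ⟨fun x hx g => ⟨F.normal.conj_mem x hx.1 g, by rw [conj_pow, hx.2, mul_one, mul_inv_cancel]⟩⟩

theorem comm_E {x : P} (hx : x ∈ F.A) (v : Four) : Commute x (F.ι v) := F.comm x hx _ (F.iota_mem v)

/-- The centralizer of `A`. -/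
def C : Subgroup P := Subgroup.centralizer (F.A : Set P)

theorem mem_C {x : P} : x ∈ F.C ↔ ∀ a ∈ F.A, x * a = a * x :=
  Subgroup.mem_centralizer_iff.trans ⟨fun h a ha => (h a ha).symm, fun h a ha => (h a ha).symm⟩

theorem A_le_C : F.A ≤ F.C := fun x hx => F.mem_C.2 fun a ha => F.comm x hx a ha

theorem C_four {x : P} (hx : x ∈ F.C) (h4 : x ^ 4 = 1) : x ∈ F.A := F.inA x (F.mem_C.1 hx) h4

theorem C_sq {x : P} (hx : x ∈ F.C) (h2 : x ^ 2 = 1) : x ∈ F.E :=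
  ⟨F.C_four hx (by rw [show 4 = 2 * 2 from rfl, pow_mul, h2, one_pow]), h2⟩

theorem C_hyp : ∀ x y : F.C, x ^ 4 = 1 → Commute x y := fun x y hx => Subtype.ext
  (F.mem_C.1 y.2 x.1 (F.C_four x.2 (by simpa using congrArg Subtype.val hx))).symm

/-- `x` acts on `A` with matrix `v`. -/
def Rep (x : P) (v : Mat) : Prop :=
  ∀ a ∈ F.A, ∀ w, F.ι w = a ^ 2 → x * a * x⁻¹ = F.ι (combo w v) * a

/-- The elements centralising the involutions of `A`. -/
def R : Subgroup P := Subgroup.centralizer (F.E : Set P)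

theorem mem_R {x : P} : x ∈ F.R ↔ ∀ v, x * F.ι v * x⁻¹ = F.ι v := by
  rw [R, Subgroup.mem_centralizer_iff]
  constructor
  · intro h v
    rw [mul_inv_eq_iff_eq_mul, h _ (F.iota_E v)]
  · intro h e he
    obtain ⟨v, rfl⟩ := F.exists_iota he
    exact (mul_inv_eq_iff_eq_mul.1 (h v)).symm

theorem shear_of_not_R {p : P} (hp : p ∉ F.R) : ∀ v, p * F.ι v * p⁻¹ = F.ι (shear v) :=
  (F.conjE p).resolve_left fun h => hp (F.mem_R.2 h)

theorem rep_mem_R {x : P} {v : Mat} (h : F.Rep x v) : x ∈ F.R := F.mem_R.2 fun w => by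
  have := h (F.ι w) (F.iota_mem w) 0 (by rw [F.iota_zero, F.iota_sq])
  rwa [combo_zero, F.iota_zero, one_mul] at this

theorem exists_rep {x : P} (hx : x ∈ F.R) : ∃ v, F.Rep x v := by
  obtain ⟨a1, h1, e1⟩ := F.sq_surj (1, 0)
  obtain ⟨a2, h2, e2⟩ := F.sq_surj (0, 1)
  have hd : ∀ a ∈ F.A, ∃ t, x * a * x⁻¹ = F.ι t * a := by
    intro a ha
    have hmem : x * a * x⁻¹ * a⁻¹ ∈ F.E := by
      refine ⟨mul_mem (F.normal.conj_mem a ha x) (inv_mem ha), ?_⟩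
      obtain ⟨w, hw⟩ := F.sq_mem a ha
      rw [Commute.mul_pow (F.comm _ (F.normal.conj_mem a ha x) _ (inv_mem ha) : Commute _ _), conj_pow,
        inv_pow, ← hw, F.mem_R.1 hx w, mul_inv_cancel]
    obtain ⟨t, ht⟩ := F.exists_iota hmem
    exact ⟨t, by rw [ht, inv_mul_cancel_right]⟩
  obtain ⟨t1, ht1⟩ := hd a1 h1
  obtain ⟨t2, ht2⟩ := hd a2 h2
  have key : ∀ a ∈ F.A, ∀ b ∈ F.A, ∀ t w w', F.ι w = a ^ 2 → F.ι w' = b ^ 2 → w = w' →
      x * b * x⁻¹ = F.ι t * b → x * a * x⁻¹ = F.ι t * a := by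
    intro a ha b hb t w w' hw hw' e ht
    subst e
    obtain ⟨u, hu⟩ := F.exists_iota (x := b⁻¹ * a) ⟨mul_mem (inv_mem hb) ha, by
      rw [Commute.mul_pow (F.comm _ (inv_mem hb) _ ha : Commute _ _), inv_pow, ← hw, ← hw', inv_mul_cancel]⟩
    rw [show a = b * F.ι u by rw [hu, mul_inv_cancel_left],
      show x * (b * F.ι u) * x⁻¹ = (x * b * x⁻¹) * (x * F.ι u * x⁻¹) by group, ht, F.mem_R.1 hx u,
      mul_assoc]
  refine ⟨(t1, t2), fun a ha w hw => ?_⟩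
  rcases four_cases w with rfl | rfl | rfl | rfl
  · rw [combo_zero]
    exact key a ha 1 (one_mem _) 0 0 0 hw (by rw [F.iota_zero, one_pow]) rfl (by simp [F.iota_zero])
  · rw [(combo_left _).1]
    exact key a ha a1 h1 t1 _ _ hw e1.symm rfl ht1
  · rw [(combo_left _).2]
    exact key a ha a2 h2 t2 _ _ hw e2.symm rfl ht2
  · rw [combo_add, (combo_left _).1, (combo_left _).2]
    refine key a ha (a1 * a2) (mul_mem h1 h2) (t1 + t2) _ _ hw
      (by rw [Commute.mul_pow (F.comm a1 h1 a2 h2 : Commute a1 a2), e1, e2, F.map_add]) rfl ?_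
    rw [show x * (a1 * a2) * x⁻¹ = (x * a1 * x⁻¹) * (x * a2 * x⁻¹) by group, ht1, ht2, F.map_add]
    simp only [mul_assoc]
    rw [← mul_assoc a1, (F.comm_E h1 t2).eq, mul_assoc]

theorem rep_unique {x : P} {v v' : Mat} (h : F.Rep x v) (h' : F.Rep x v') : v = v' := by
  have key : ∀ w, combo w v = combo w v' := fun w => by
    obtain ⟨a, ha, e⟩ := F.sq_surj w
    exact F.inj (mul_right_cancel ((h a ha w e.symm).symm.trans (h' a ha w e.symm)))
  have h1 := key (1, 0)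
  have h2 := key (0, 1)
  rw [(combo_left v).1, (combo_left v').1] at h1
  rw [(combo_left v).2, (combo_left v').2] at h2
  exact Prod.ext h1 h2

theorem rep_zero_iff {x : P} : F.Rep x 0 ↔ x ∈ F.C := by
  rw [F.mem_C]
  constructor
  · intro h a ha
    obtain ⟨w, hw⟩ := F.sq_mem a ha
    have := h a ha w hw
    rwa [combo_zero_right, F.iota_zero, one_mul, mul_inv_eq_iff_eq_mul] at this
  · intro h a ha w _
    rw [combo_zero_right, F.iota_zero, one_mul, h a ha, mul_inv_cancel_right]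

theorem rep_mul {x y : P} {v v' : Mat} (h : F.Rep x v) (h' : F.Rep y v') : F.Rep (x * y) (v + v') := by
  intro a ha w hw
  rw [show x * y * a * (x * y)⁻¹ = x * (y * a * y⁻¹) * x⁻¹ by group, h' a ha w hw,
    show x * (F.ι (combo w v') * a) * x⁻¹ = (x * F.ι (combo w v') * x⁻¹) * (x * a * x⁻¹) by group,
    F.mem_R.1 (F.rep_mem_R h), h a ha w hw, combo_add_right, F.map_add, ← mul_assoc,
    (F.comm_E (F.iota_mem _) _).eq]

theorem rep_inv {x : P} {v : Mat} (h : F.Rep x v) : F.Rep x⁻¹ v := by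
  obtain ⟨v', hv'⟩ := F.exists_rep (inv_mem (F.rep_mem_R h))
  have h0 := F.rep_mul h hv'
  rw [mul_inv_cancel] at h0
  have h1 := F.rep_unique h0 (F.rep_zero_iff.2 (one_mem _))
  rwa [show v' = v by rw [← add_right_inj v, h1, add_self_mat]] at hv'

theorem rep_div {x y : P} {v : Mat} (h : F.Rep x v) (h' : F.Rep y v) : x⁻¹ * y ∈ F.C :=
  F.rep_zero_iff.1 (by simpa only [add_self_mat] using F.rep_mul (F.rep_inv h) h')

theorem rep_sq {x : P} {v : Mat} (h : F.Rep x v) : x ^ 2 ∈ F.C := by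
  rw [pow_two]
  exact F.rep_zero_iff.1 (by simpa only [add_self_mat] using F.rep_mul h h)

theorem rep_mul_C {x c : P} {v : Mat} (h : F.Rep x v) (hc : c ∈ F.C) : F.Rep (x * c) v := by
  simpa using F.rep_mul h (F.rep_zero_iff.2 hc)

theorem rep_conj_R {x p : P} {v : Mat} (h : F.Rep x v) (hp : p ∈ F.R) : F.Rep (p * x * p⁻¹) v := by
  intro a ha w hw
  have hb : p⁻¹ * a * p ∈ F.A := F.normal.conj_mem' a ha p
  have hw' : F.ι w = (p⁻¹ * a * p) ^ 2 := by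
    rw [show p⁻¹ * a * p = p⁻¹ * a * (p⁻¹)⁻¹ by rw [inv_inv], conj_pow, ← hw,
      F.mem_R.1 (inv_mem hp) w]
  rw [show p * x * p⁻¹ * a * (p * x * p⁻¹)⁻¹ = p * (x * (p⁻¹ * a * p) * x⁻¹) * p⁻¹ by group,
    h _ hb w hw', show p * (F.ι (combo w v) * (p⁻¹ * a * p)) * p⁻¹ = (p * F.ι (combo w v) * p⁻¹) * a by
      group, F.mem_R.1 hp]

theorem rep_conj_shear {x p : P} {v : Mat} (h : F.Rep x v) (hp : p ∉ F.R) :
    F.Rep (p * x * p⁻¹) (tw v) := by
  intro a ha w hw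
  have hb : p⁻¹ * a * p ∈ F.A := F.normal.conj_mem' a ha p
  have hw' : F.ι (shear w) = (p⁻¹ * a * p) ^ 2 := by
    rw [show p⁻¹ * a * p = p⁻¹ * a * (p⁻¹)⁻¹ by rw [inv_inv], conj_pow, ← hw,
      F.shear_of_not_R (fun hc => hp (by simpa using inv_mem hc)) w]
  rw [show p * x * p⁻¹ * a * (p * x * p⁻¹)⁻¹ = p * (x * (p⁻¹ * a * p) * x⁻¹) * p⁻¹ by group,
    h _ hb _ hw',
    show p * (F.ι (combo (shear w) v) * (p⁻¹ * a * p)) * p⁻¹ = (p * F.ι (combo (shear w) v) * p⁻¹) * a by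
      group, F.shear_of_not_R hp, tw_combo]

theorem rep_conj_fixed {x : P} {v : Mat} (h : F.Rep x v) (hv : (∀ p, p ∈ F.R) ∨ tw v = v) (p : P) :
    F.Rep (p * x * p⁻¹) v := by
  by_cases hp : p ∈ F.R
  · exact F.rep_conj_R h hp
  · rcases hv with hv | hv
    · exact absurd (hv p) hp
    · simpa only [hv] using F.rep_conj_shear h hp

/-- The matrices of the elements of a subgroup. -/
def mats (H : Subgroup P) : AddSubgroup Mat where
  carrier := {v | ∃ x ∈ H, F.Rep x v}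
  zero_mem' := ⟨1, one_mem _, F.rep_zero_iff.2 (one_mem _)⟩
  add_mem' := fun ⟨x, hx, h⟩ ⟨y, hy, h'⟩ => ⟨x * y, mul_mem hx hy, F.rep_mul h h'⟩
  neg_mem' := fun {v} hv => by rw [neg_mat]; exact hv

theorem mem_mats {H : Subgroup P} {v : Mat} : v ∈ F.mats H ↔ ∃ x ∈ H, F.Rep x v := Iff.rfl

theorem combo_of_fixed {x : P} {v : Mat} (h : F.Rep x v) {a : P} (ha : a ∈ F.A) {w : Four}
    (hw : F.ι w = a ^ 2) (hc : x * a * x⁻¹ = a) : combo w v = 0 := by
  refine F.inj ?_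
  rw [F.iota_zero]
  exact (right_eq_mul.1 (hc.symm.trans (h a ha w hw)))

theorem inj_sq {u : P} {v : Mat} (h : F.Rep u v) (hv : Inj v) : u ^ 2 ∈ F.E := by
  have hC := F.rep_sq h
  by_contra hne
  obtain ⟨n, h4, h2⟩ := exists_pow_four F.hP (c := u ^ 2) fun h2 => hne (F.C_sq hC h2)
  have hA := F.C_four (pow_mem hC n) h4
  obtain ⟨w, hw⟩ := F.sq_mem _ hA
  refine h2 ?_
  rw [← hw, hv w (F.combo_of_fixed h hA hw ?_), F.iota_zero]
  rw [← pow_mul, ← pow_succ', pow_succ, mul_inv_cancel_right]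

theorem inj_inv {u : P} {v : Mat} (h : F.Rep u v) (hv : Inj v) {c : P} (hc : c ∈ F.C) :
    u * c * u⁻¹ * c ∈ F.E := by
  have h1 := F.inj_sq (F.rep_mul_C h hc) hv
  have h2 := F.inj_sq h hv
  have hcomm : u ^ 2 * c = c * u ^ 2 := (F.mem_C.1 hc _ h2.1).symm
  have e : (u * c) ^ 2 = u * c * u⁻¹ * c * u ^ 2 := by
    rw [mul_assoc _ c (u ^ 2), ← hcomm]; simp only [pow_two]; group
  rw [show u * c * u⁻¹ * c = (u * c) ^ 2 * (u ^ 2)⁻¹ by rw [e, mul_inv_cancel_right]]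
  exact mul_mem h1 (inv_mem h2)

theorem C_le_A {u : P} {v : Mat} (h : F.Rep u v) (hv : Inj v) (hv' : InjOne v) : F.C ≤ F.A := by
  intro c hc
  by_contra hcA
  obtain ⟨k, hk1, hk2⟩ : ∃ k, c ^ 2 ^ k ∉ F.A ∧ (c ^ 2 ^ k) ^ 2 ∈ F.A := by
    classical
    have hex : ∃ k : ℕ, c ^ 2 ^ k ∈ F.A := by
      obtain ⟨k, hk⟩ := F.hP c
      exact ⟨k, by rw [hk]; exact one_mem _⟩
    have hs := Nat.find_spec hex
    generalize hkk : Nat.find hex = k at hs
    rcases k with _ | k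
    · exact absurd (by simpa using hs) hcA
    · exact ⟨k, fun hf => by have := Nat.find_le (h := hex) hf; omega,
        by rw [← pow_mul, ← pow_succ]; exact hs⟩
  generalize hg : c ^ 2 ^ k = g at hk1 hk2
  have hgC : g ∈ F.C := hg ▸ pow_mem hc _
  have he := F.inj_inv h hv hgC
  obtain ⟨t, ht⟩ := F.exists_iota he
  have hconj : u * g * u⁻¹ = F.ι t * g⁻¹ := by rw [ht, mul_inv_cancel_right]
  have hcm : Commute (F.ι t) g⁻¹ := Commute.inv_right (F.mem_C.1 hgC _ (F.iota_mem t)).symm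
  obtain ⟨w, hw⟩ := F.sq_mem _ hk2
  have h1 : u * g ^ 2 * u⁻¹ = F.ι (combo w v) * g ^ 2 := h _ hk2 w hw
  have h4 : (g ^ 2) ^ 4 = 1 := F.pow_four hk2
  rw [← conj_pow, hconj, hcm.mul_pow, F.iota_sq, one_mul, inv_pow] at h1
  have hw0 : combo w v + w = 0 := by
    refine F.inj ?_
    rw [F.map_add, F.iota_zero, hw, pow_two (g ^ 2), ← mul_assoc, ← h1, inv_mul_cancel]
  have hgE : g ^ 2 ∈ F.E := ⟨hk2, by rw [← hw, hv' w hw0, F.iota_zero]⟩
  refine hk1 (F.C_four hgC ?_)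
  rw [show 4 = 2 * 2 from rfl, pow_mul, hgE.2]

end Frame

end Cfsg.Agent.Lib.SectionalFour
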