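import Cfsg.Agent.Lib.SectionalFour.Central

/-!
A maximal normal abelian subgroup of exponent four of a 2-group holds all elements of order dividing
four of its centralizer.
-/

set_option autoImplicit false
set_option linter.style.haveILetI false

namespace Cfsg.Agent.Lib.SectionalFour

variable {P : Type*} [Group P]

open scoped commutatorElement

/-- Normal, abelian, of exponent dividing four. -/
def Good (A : Subgroup P) : Prop :=
  A.Normal ∧ (∀ a ∈ A, ∀ b ∈ A, a * b = b * a) ∧ ∀ a ∈ A, a ^ 4 = 1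

theorem good_extend {A : Subgroup P} (hA : Good A) {x : P} (hxA : ∀ a ∈ A, x * a = a * x)
    (hx4 : x ^ 4 = 1) (hconj : ∀ p : P, p * x * p⁻¹ * x⁻¹ ∈ A) :
    Good (A ⊔ Subgroup.zpowers x) := by
  haveI := hA.1
  have hcx : ∀ a ∈ A, ∀ i : ℤ, Commute a (x ^ i) := fun a ha i =>
    Commute.zpow_right ((hxA a ha).symm : Commute a x) i
  have hmem : ∀ u ∈ A ⊔ Subgroup.zpowers x, ∃ a ∈ A, ∃ i : ℤ, u = a * x ^ i := fun u hu => by
    obtain ⟨a, ha, w, ⟨i, rfl⟩, rfl⟩ := Subgroup.mem_sup_of_normal_left.1 hu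
    exact ⟨a, ha, i, rfl⟩
  refine ⟨⟨fun u hu p => ?_⟩, fun u hu v hv => ?_, fun u hu => ?_⟩
  · obtain ⟨a, ha, i, rfl⟩ := hmem u hu
    have hx' : p * x * p⁻¹ ∈ A ⊔ Subgroup.zpowers x := by
      rw [show p * x * p⁻¹ = p * x * p⁻¹ * x⁻¹ * x by group]
      exact Subgroup.mul_mem_sup (hconj p) (Subgroup.mem_zpowers x)
    rw [show p * (a * x ^ i) * p⁻¹ = (p * a * p⁻¹) * (p * x ^ i * p⁻¹) by group, ← conj_zpow]
    exact mul_mem (Subgroup.mem_sup_left (hA.1.conj_mem a ha p)) (zpow_mem hx' i)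
  · obtain ⟨a, ha, i, rfl⟩ := hmem u hu
    obtain ⟨b, hb, j, rfl⟩ := hmem v hv
    exact ((Commute.mul_left ((hA.2.1 a ha b hb : Commute a b)) (hcx b hb i).symm).mul_right
      ((hcx a ha j).mul_left (Commute.zpow_zpow_self x i j))).eq
  · obtain ⟨a, ha, i, rfl⟩ := hmem u hu
    rw [(hcx a ha i).mul_pow, hA.2.2 a ha, ← zpow_natCast (x ^ i), ← zpow_mul, mul_comm i, zpow_mul,
      zpow_natCast, hx4, one_zpow, mul_one]

theorem exists_min_pow (hP : IsPGroup 2 P) {A : Subgroup P} {y : P} (hy : y ∉ A) :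
    ∃ k : ℕ, y ^ 2 ^ k ∉ A ∧ (y ^ 2 ^ k) ^ 2 ∈ A := by
  classical
  have hex : ∃ k : ℕ, y ^ 2 ^ k ∈ A := by
    obtain ⟨k, hk⟩ := hP y
    exact ⟨k, by rw [hk]; exact one_mem A⟩
  have hs := Nat.find_spec hex
  generalize hkk : Nat.find hex = k at hs
  rcases k with _ | k
  · exact absurd (by simpa using hs) hy
  · exact ⟨k, fun h => by have := Nat.find_le (h := hex) h; omega,
      by rw [← pow_mul, ← pow_succ]; exact hs⟩

/-- In the centralizer of a maximal good subgroup every solution of `x ^ 4 = 1` lies in it. -/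
theorem four_mem [Finite P] (hP : IsPGroup 2 P) {A : Subgroup P} (hA : Maximal Good A) {x : P}
    (hxC : ∀ a ∈ A, x * a = a * x) (hx4 : x ^ 4 = 1) : x ∈ A := by
  classical
  haveI : Fact (Nat.Prime 2) := ⟨Nat.prime_two⟩
  haveI := hA.1.1
  by_contra hxA
  let γ := (⊤ : Subgroup P).lowerCentralSeries
  let S : P → Prop := fun y => (∀ a ∈ A, y * a = a * y) ∧ y ^ 4 = 1 ∧ y ∉ A
  have hnil : Group.IsNilpotent P := hP.isNilpotent
  obtain ⟨n, hn⟩ := Subgroup.nilpotent_iff_lowerCentralSeries.1 hnil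
  have hex : ∃ k, ∀ y ∈ A ⊔ γ k, ¬ S y := ⟨n, fun y hy hS => hS.2.2 (by
    rwa [show γ n = ⊥ from hn, sup_bot_eq] at hy)⟩
  have hs := Nat.find_spec hex
  generalize hkk : Nat.find hex = k at hs
  rcases k with _ | k
  · exact hs x (by simp [γ, Subgroup.lowerCentralSeries_zero]) ⟨hxC, hx4, hxA⟩
  obtain ⟨y, hy, hyS⟩ : ∃ y ∈ A ⊔ γ k, S y := by
    by_contra hcon
    push Not at hcon
    have := Nat.find_le (h := hex) hcon
    omega
  have hpow : ∀ a ∈ A, ∀ (z : P) (m : ℕ), z * a = a * z → z ^ m * a = a * z ^ m :=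
    fun a _ z m h => (Commute.pow_left (h : Commute z a) m).eq
  obtain ⟨u, hu, huS, hu2⟩ : ∃ u ∈ A ⊔ γ k, S u ∧ u ^ 2 ∈ A := by
    by_cases h2 : y ^ 2 ∈ A
    · exact ⟨y, hy, hyS, h2⟩
    · refine ⟨y ^ 2, pow_mem hy 2, ⟨fun a ha => hpow a ha y 2 (hyS.1 a ha), ?_, h2⟩, ?_⟩
      · rw [← pow_mul, show 2 * 4 = 4 * 2 from rfl, pow_mul, hyS.2.1, one_pow]
      · rw [← pow_mul, hyS.2.1]; exact one_mem A
  obtain ⟨huC, hu4, huA⟩ := huS
  refine huA (hA.le_of_ge (good_extend hA.1 huC hu4 fun p => ?_) le_sup_left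
    (Subgroup.mem_sup_right (Subgroup.mem_zpowers u)))
  obtain ⟨a0, ha0, g, hg, hag⟩ := Subgroup.mem_sup_of_normal_left.1 hu
  generalize hm : p * u * p⁻¹ * u⁻¹ = m
  have hmB : m ∈ A ⊔ γ (k + 1) := by
    have h1 : m = (p * a0 * p⁻¹) * (p * g * p⁻¹ * g⁻¹) * a0⁻¹ := by rw [← hm, ← hag]; group
    rw [h1]
    refine mul_mem (mul_mem (Subgroup.mem_sup_left (hA.1.1.conj_mem a0 ha0 p)) ?_)
      (inv_mem (Subgroup.mem_sup_left ha0))
    rw [show p * g * p⁻¹ * g⁻¹ = ⁅g, p⁆⁻¹ by simp only [commutatorElement_def]; group]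
    exact inv_mem (Subgroup.mem_sup_right (Subgroup.commutator_mem_commutator hg (Subgroup.mem_top p)))
  have hmC : ∀ a ∈ A, m * a = a * m := fun a ha => by
    have h1 : p⁻¹ * a * p ∈ A := hA.1.1.conj_mem' a ha p
    have h2 : Commute u (p⁻¹ * a * p) := huC _ h1
    have h3 : Commute (MulAut.conj p u) (MulAut.conj p (p⁻¹ * a * p)) :=
      h2.map (MulAut.conj p).toMonoidHom
    rw [MulAut.conj_apply, MulAut.conj_apply, show p * (p⁻¹ * a * p) * p⁻¹ = a by group] at h3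
    rw [← hm]
    exact (h3.mul_left (Commute.inv_left (huC a ha : Commute u a))).eq
  have hw2 : (m * u) ^ 2 ∈ A := by
    rw [← hm, show p * u * p⁻¹ * u⁻¹ * u = p * u * p⁻¹ by group, conj_pow]
    exact hA.1.1.conj_mem _ hu2 p
  generalize ha : (m * u) ^ 2 * (u ^ 2)⁻¹ = a
  have haA : a ∈ A := by rw [← ha]; exact mul_mem hw2 (inv_mem hu2)
  have hinv : MulAut.conj u m = m⁻¹ * a := by
    rw [MulAut.conj_apply, ← ha]; simp only [pow_two]; group
  have hma : Commute m⁻¹ a := Commute.inv_left (hmC a haA : Commute m a)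
  have hfix : ∀ b ∈ A, MulAut.conj u b = b := fun b hb => by
    rw [MulAut.conj_apply, huC b hb, mul_inv_cancel_right]
  have hkey : ∀ i : ℕ, (m ^ i) ^ 2 ∈ A → m ^ (4 * i) = a ^ (2 * i) := fun i hi => by
    have h1 := hfix _ hi
    rw [← pow_mul, map_pow, hinv, hma.mul_pow, inv_pow, inv_mul_eq_iff_eq_mul, ← pow_add] at h1
    rw [show 4 * i = i * 2 + i * 2 by omega, ← h1, mul_comm i 2]
  have hm2 : m ^ 2 ∈ A := by
    by_contra hne
    obtain ⟨j, hj1, hj2⟩ := exists_min_pow hP hne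
    rw [← pow_mul m 2 (2 ^ j)] at hj1 hj2
    have h4 : (m ^ (2 * 2 ^ j)) ^ 4 = 1 := by
      rw [← pow_mul, mul_comm, hkey _ hj2, show 2 * (2 * 2 ^ j) = 4 * 2 ^ j by omega, pow_mul,
        hA.1.2.2 a haA, one_pow]
    exact hs _ (pow_mem hmB _) ⟨fun b hb => hpow b hb m _ (hmC b hb), h4, hj1⟩
  have h4 : m ^ 4 = 1 := by
    have h1 := hkey 1 (by rwa [pow_one])
    simp only [mul_one] at h1
    rw [h1, ← ha, Commute.mul_pow (hA.1.2.1 _ hw2 _ (inv_mem hu2) : Commute _ _), inv_pow, ← pow_mul, ← pow_mul,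
      hu4, inv_one, mul_one, show 2 * 2 = 4 from rfl,
      ← hm, show p * u * p⁻¹ * u⁻¹ * u = p * u * p⁻¹ by group, conj_pow, hu4, mul_one, mul_inv_cancel]
  by_contra hne
  exact hs m hmB ⟨hmC, h4, hne⟩

end Cfsg.Agent.Lib.SectionalFour
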