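import Cfsg.Agent.Lib.SectionalFour.Endgame
import Cfsg.Agent.Lib.SectionalFour.Maximal
import Cfsg.Agent.Lib.SectionalFour.Count
import Cfsg.Agent.Lib.PGroups.RankFourPair

/-!
A 2-group whose normal elementary abelian subgroups have order at most four has no elementary abelian
section of order 32.
-/

set_option autoImplicit false
set_option linter.style.haveILetI false

namespace Cfsg.Agent.Lib.SectionalFour

variable {P : Type*} [Group P] [Finite P]

namespace Frame

variable (F : Frame P) (H : Subgroup P)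

theorem index_bound :
    (H ≤ F.R → (F.C.subgroupOf H).index ≤ Nat.card (F.mats H)) ∧
      (F.C.subgroupOf H).index ≤ 2 * Nat.card (F.mats H) := by
  classical
  have hch : ∀ h : H, h.1 ∈ F.R → ∃ v : F.mats H, F.Rep h.1 v.1 := fun h hR => by
    obtain ⟨v, hv⟩ := F.exists_rep hR
    exact ⟨⟨v, h.1, h.2, hv⟩, hv⟩
  choose f hf using hch
  constructor
  · intro hle
    refine index_le_of_map _ (fun h => f h (hle h.2)) fun a b hab => Subgroup.mem_subgroupOf.2 ?_
    exact F.rep_div (hf a (hle a.2)) (by rw [hab]; exact hf b _)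
  · have e2 : Nat.card (Bool × F.mats H) = 2 * Nat.card (F.mats H) := by
      rw [Nat.card_prod, Nat.card_eq_fintype_card (α := Bool), Fintype.card_bool]
    refine le_of_le_of_eq ?_ e2
    by_cases hle : ∀ h : H, h.1 ∈ F.R
    · refine index_le_of_map _ (fun h => (true, f h (hle h))) fun a b hab => Subgroup.mem_subgroupOf.2 ?_
      exact F.rep_div (hf a (hle a)) (by rw [show f a (hle a) = f b (hle b) from (Prod.ext_iff.1 hab).2]; exact hf b _)
    push Not at hle
    obtain ⟨s, hs⟩ := hle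
    have hsR : ∀ h : H, h.1 ∉ F.R → (s⁻¹ * h).1 ∈ F.R := fun h hh => F.mem_R.2 fun v => by
      have e1 := F.shear_of_not_R (fun hc => hs (by simpa using inv_mem hc) : s.1⁻¹ ∉ F.R)
      have e2 := F.shear_of_not_R hh
      rw [Subgroup.coe_mul, Subgroup.coe_inv,
        show s.1⁻¹ * h.1 * F.ι v * (s.1⁻¹ * h.1)⁻¹ = s.1⁻¹ * (h.1 * F.ι v * h.1⁻¹) * (s.1⁻¹)⁻¹ by group,
        e2, e1, shear_shear]
    refine index_le_of_map _
      (fun h => if hh : h.1 ∈ F.R then (true, f h hh) else (false, f (s⁻¹ * h) (hsR h hh)))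
      fun a b hab => Subgroup.mem_subgroupOf.2 ?_
    by_cases ha : a.1 ∈ F.R <;> by_cases hb : b.1 ∈ F.R <;> simp [ha, hb] at hab
    · exact F.rep_div (hf a ha) (by rw [hab]; exact hf b hb)
    · have := F.rep_div (hf (s⁻¹ * a) (hsR a ha)) (v := (f (s⁻¹ * a) (hsR a ha)).1)
        (by rw [hab]; exact hf (s⁻¹ * b) (hsR b hb))
      simpa [mul_assoc] using this

omit [Finite P] in
theorem tw_fixed {W : Type*} [Group W] (hWc : ∀ a b : W, a * b = b * a) {φ : H →* W}
    (hker : φ.ker ≤ F.C.subgroupOf H) {s : P} (hsH : s ∈ H) (hs : s ∉ F.R) {v : Mat}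
    (hv : v ∈ F.mats H) : tw v = v := by
  obtain ⟨x, hx, hr⟩ := hv
  have hk : (⟨s, hsH⟩ * ⟨x, hx⟩ * ⟨s, hsH⟩⁻¹ * ⟨x, hx⟩⁻¹ : H) ∈ φ.ker := by
    rw [MonoidHom.mem_ker, map_mul, map_mul, map_mul, hWc (φ ⟨s, hsH⟩), map_inv, map_inv,
      mul_inv_cancel_right, mul_inv_cancel]
  have hc : s * x * s⁻¹ * x⁻¹ ∈ F.C := Subgroup.mem_subgroupOf.1 (hker hk)
  have h1 := F.rep_mul (F.rep_zero_iff.2 hc) hr
  rw [inv_mul_cancel_right, zero_add] at h1
  exact F.rep_unique (F.rep_conj_shear hr hs) h1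

include F in
theorem no_section {W : Type*} [Group W] [Finite W] (φ : H →* W) (hφ : Function.Surjective φ)
    (hW : ∀ w : W, w ^ 2 = 1) (hcard : 32 ≤ Nat.card W) : False := by
  classical
  have hWc : ∀ a b : W, a * b = b * a := fun a b => by
    have hi : ∀ x : W, x⁻¹ = x := fun x => inv_eq_of_mul_eq_one_right (by rw [← pow_two, hW])
    rw [← hi (a * b), mul_inv_rev, hi, hi]
  generalize hL : F.C.subgroupOf H = L
  have hGL : IsPGroup 2 L := (F.hP.to_subgroup H).to_subgroup L
  have hLC : ∀ x : L, (x.1.1) ∈ F.C := fun x => Subgroup.mem_subgroupOf.1 (hL ▸ x.2)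
  have hcL : ∀ x y : L, x ^ 4 = 1 → Commute x y := fun x y hx => by
    have := F.C_hyp ⟨_, hLC x⟩ ⟨_, hLC y⟩ (Subtype.ext (by
      simpa using congrArg Subtype.val (congrArg Subtype.val hx)))
    exact Subtype.ext (Subtype.ext (congrArg Subtype.val this.eq : _))
  have hΩ : Nat.card {x : L // x ^ 2 = 1} ≤ 4 := by
    have hex : ∀ x : {x : L // x ^ 2 = 1}, ∃ v, F.ι v = x.1.1.1 := fun x =>
      F.exists_iota (F.C_sq (hLC x.1) (by simpa using congrArg Subtype.val (congrArg Subtype.val x.2)))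
    choose g hg using hex
    calc _ ≤ Nat.card Four := Nat.card_le_card_of_injective g fun a b hab => by
          have h1 := hg a
          rw [hab, hg b] at h1
          exact Subtype.ext (Subtype.ext (Subtype.ext h1.symm))
      _ = 4 := by rw [Nat.card_eq_fintype_card]; rfl
  let ψ : L →* W := φ.comp L.subtype
  have hψ : ψ.range = L.map φ := by rw [MonoidHom.range_comp, Subgroup.range_subtype]
  have hM : Nat.card (L.map φ) ≤ 4 := by
    rw [← hψ]; exact (card_range_le hGL hcL ψ hW).trans hΩ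
  have hMW := (L.map φ).card_mul_index
  have hdvd : (L.map φ).index ≤ L.index :=
    Nat.le_of_dvd (Nat.pos_of_ne_zero Subgroup.index_ne_zero_of_finite) (L.index_map_dvd hφ)
  have hM8 : 8 ≤ (L.map φ).index := by nlinarith
  have hib := F.index_bound H
  rw [hL] at hib
  have hMat : Nat.card Mat = 16 := by rw [Nat.card_eq_fintype_card]; rfl
  have hVdvd : Nat.card (F.mats H) ∣ 16 := hMat ▸ AddSubgroup.card_addSubgroup_dvd_card _
  have hVcard : 2 * Nat.card (F.mats H) ≥ 8 := by omega
  have hfixed : φ.ker ≤ L → ∀ s ∈ H, s ∉ F.R → Nat.card (F.mats H) ≤ 4 ∧ ∀ v ∈ F.mats H, tw v = v := by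
    intro hk s hsH hs
    refine ⟨?_, fun v hv => F.tw_fixed H hWc (hL ▸ hk) hsH hs hv⟩
    rw [← fixed_card]
    rw [← Nat.card_eq_finsetCard]
    exact Nat.card_le_card_of_injective (fun v => ⟨v.1, Finset.mem_filter.2
      ⟨Finset.mem_univ _, F.tw_fixed H hWc (hL ▸ hk) hsH hs v.2⟩⟩) fun a b hab =>
        Subtype.ext (congrArg Subtype.val hab :)
  have hle : F.mats H ≤ F.mats ⊤ := fun v ⟨x, _, hx⟩ => ⟨x, Subgroup.mem_top _, hx⟩
  obtain ⟨n, hnV, hIV, hn, hfix, hidx⟩ : ∃ n : Mat, n ∈ F.mats H ∧ matI ∈ F.mats H ∧ Comp n ∧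
      ((∀ p, p ∈ F.R) ∨ tw n = n) ∧ (L.map φ).index ≤ 8 := by
    rcases le_or_gt 8 (Nat.card (F.mats H)) with hV | hV
    · have hV' : 8 ≤ Nat.card (F.mats ⊤) := hV.trans (AddSubgroup.card_le_of_le hle)
      obtain ⟨d, hd, hdtop⟩ := exists_func _ hV'
      have hno : ¬ (matW ∈ F.mats ⊤ ∨ matW' ∈ F.mats ⊤) := by
        intro h
        refine F.case_a h ?_
        by_cases hall : ∀ p, p ∈ F.R
        · exact Or.inl hall
        push Not at hall
        obtain ⟨s, hs⟩ := hall
        right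
        rcases func_twisted d with ⟨v, h1, h2⟩ | ⟨hN, -⟩
        · obtain ⟨x, -, hx⟩ := hd v h1
          rw [hdtop ⟨tw v, ⟨_, Subgroup.mem_top _, F.rep_conj_shear hx hs⟩, h2⟩]
          trivial
        · exact hd _ hN
      have hne : F.mats ⊤ ≠ ⊤ := fun h => hno (Or.inl (h ▸ AddSubgroup.mem_top _))
      have h8 : Nat.card (F.mats ⊤) ≤ 8 := by
        have h1 := (F.mats ⊤).card_mul_index
        rw [hMat] at h1
        have h2 : (F.mats ⊤).index ≠ 1 := fun h => hne (AddSubgroup.index_eq_one.1 h)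
        have h3 : (F.mats ⊤).index ≠ 0 := fun h => by rw [h] at h1; omega
        have h4 : 2 ≤ (F.mats ⊤).index := by omega
        nlinarith
      have heq : F.mats H = F.mats ⊤ := AddSubgroup.eq_of_le_of_card_ge hle (h8.trans hV)
      have hidx : (L.map φ).index ≤ 8 := by
        by_cases hHR : H ≤ F.R
        · have := hib.1 hHR
          rw [heq] at this
          omega
        obtain ⟨s, hsH, hs⟩ := SetLike.not_le_iff_exists.1 hHR
        by_cases hk : φ.ker ≤ L
        · have := (hfixed hk s hsH hs).1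
          omega
        have := index_map_two_le hφ hk
        have := hib.2
        rw [heq] at this
        omega
      rw [heq]
      by_cases hall : ∀ p, p ∈ F.R
      · rcases func_dichotomy d with h | h | ⟨hI, n, hn, hdn⟩
        · exact absurd (Or.inl (hd _ h)) hno
        · exact absurd (Or.inr (hd _ h)) hno
        · exact ⟨n, hd _ hdn, hd _ hI, hn, Or.inl hall, hidx⟩
      push Not at hall
      obtain ⟨s, hs⟩ := hall
      rcases func_twisted d with ⟨v, h1, h2⟩ | ⟨hN, h | h | h⟩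
      · obtain ⟨x, -, hx⟩ := hd v h1
        exact absurd (hdtop ⟨tw v, ⟨_, Subgroup.mem_top _, F.rep_conj_shear hx hs⟩, h2⟩) hne
      · exact absurd (Or.inl (hd _ h)) hno
      · exact absurd (Or.inr (hd _ h)) hno
      · exact ⟨matN, hd _ hN, hd _ h, ⟨matN_props.1, matN_props.2.1, matN_props.2.2.1⟩,
          Or.inr matN_props.2.2.2.2.1, hidx⟩
    · have hV4 : Nat.card (F.mats H) = 4 := by
        obtain ⟨k, hk, e⟩ := (Nat.dvd_prime_pow Nat.prime_two).1 (show Nat.card (F.mats H) ∣ 2 ^ 4 by simpa using hVdvd)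
        rw [e] at hV hVcard ⊢
        interval_cases k <;> omega
      have hk : φ.ker ≤ L := by
        by_contra hk
        have := index_map_two_le hφ hk
        have := hib.2
        omega
      have hHR : ¬ H ≤ F.R := fun hc => by have := hib.1 hc; omega
      obtain ⟨s, hsH, hs⟩ := SetLike.not_le_iff_exists.1 hHR
      have hfx := (hfixed hk s hsH hs).2
      have hall : ∀ v : Mat, tw v = v → v ∈ F.mats H := by
        have e : ((F.mats H : Set Mat)) = {v | tw v = v} := Set.eq_of_subset_of_ncard_le hfx (by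
          rw [← Nat.card_coe_set_eq, ← Nat.card_coe_set_eq, SetLike.coe_sort_coe, hV4,
            Nat.card_eq_fintype_card, ← fixed_card, ← Fintype.card_subtype]
          exact le_of_eq (Fintype.card_congr (Equiv.refl _))) (Set.toFinite _)
        intro v hv
        have hv' : v ∈ ({v | tw v = v} : Set Mat) := hv
        rw [← e] at hv'
        exact hv'
      have := hib.2
      exact ⟨matN, hall _ matN_props.2.2.2.2.1, hall _ matN_props.2.2.2.2.2.1,
        ⟨matN_props.1, matN_props.2.1, matN_props.2.2.1⟩, Or.inr matN_props.2.2.2.2.1, by omega⟩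
  have hM4 : Nat.card (L.map φ) = 4 := by
    refine le_antisymm hM ?_
    nlinarith
  obtain ⟨y, hyH, hy⟩ := hnV
  obtain ⟨x, -, hx⟩ := hIV
  have hy2 : (⟨y, hyH⟩ : H) ^ 2 ∈ L := by
    rw [← hL, Subgroup.mem_subgroupOf]
    simpa using F.rep_sq hy
  obtain ⟨l, hl⟩ := exists_sq hGL hcL ψ hW (by rw [hψ, hM4]; exact hΩ) (g := ⟨_, hy2⟩) (by
    show φ ((⟨y, hyH⟩ : H) ^ 2) = 1
    rw [map_pow, hW])
  exact F.case_b hx hy hn hfix (hLC l) (by simpa using congrArg Subtype.val (congrArg Subtype.val hl))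

end Frame

end Cfsg.Agent.Lib.SectionalFour
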