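import Cfsg.Agent.Lib.SectionalFour.AltEight
import Cfsg.Agent.Lib.QuadFin.EightPointSubgroups

/-!
Nonsolvable groups of even permutations of eight points with a nontrivial odd normal subgroup.
-/

set_option autoImplicit false
set_option linter.style.haveILetI false

namespace Cfsg.Agent.Lib.SectionalFour

open Equiv
open Cfsg.Agent.Lib.QuadFin.EightPoint (solvable_of_dvd isSolvable_of_card_le_forty_five)

variable {G : Type*} [Group G] [Finite G]

theorem solvable_of_normal {H : Subgroup G} [H.Normal] (h1 : Group.IsSolvable H)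
    (h2 : Group.IsSolvable (G ⧸ H)) : Group.IsSolvable G := by
  haveI := h1
  haveI := h2
  exact solvable_of_ker_le_range H.subtype (QuotientGroup.mk' H)
    (by rw [QuotientGroup.ker_mk', Subgroup.range_subtype])

theorem solvable_of_sylow_unique {p q a b : ℕ} [Fact p.Prime] (hq : q.Prime) {r : ℕ} (hr : r.Prime)
    (P : Sylow p G) (hn : Nat.card (Sylow p G) = 1) {k : ℕ} (hP : Nat.card (P : Subgroup G) = p ^ k)
    (hc : Nat.card G = p ^ k * (q ^ a * r ^ b)) : Group.IsSolvable G := by
  haveI : Subsingleton (Sylow p G) := (Nat.card_eq_one_iff_unique.mp hn).1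
  haveI : (P : Subgroup G).Normal := P.normal_of_subsingleton
  refine solvable_of_normal (H := (P : Subgroup G))
    (solvable_of_dvd (a := k) (b := 0) (Fact.out : p.Prime) hq (by rw [hP, pow_zero, mul_one]))
    (solvable_of_dvd (a := a) (b := b) hq hr (dvd_of_eq ?_))
  have h := Subgroup.card_eq_card_quotient_mul_card_subgroup (P : Subgroup G)
  rw [hP, hc, mul_comm (p ^ k)] at h
  exact (Nat.eq_of_mul_eq_mul_right (pow_pos (Fact.out : p.Prime).pos k) h).symm

theorem solvable_of_card_315 (h : Nat.card G = 315) : Group.IsSolvable G := by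
  haveI : Fact (Nat.Prime 3) := ⟨by norm_num⟩
  haveI : Fact (Nat.Prime 5) := ⟨by norm_num⟩
  obtain ⟨P3⟩ : Nonempty (Sylow 3 G) := inferInstance
  obtain ⟨P5⟩ : Nonempty (Sylow 5 G) := inferInstance
  have h3 : Nat.card (P3 : Subgroup G) = 3 ^ 2 := by
    rw [P3.card_eq_multiplicity, h, show (315 : ℕ) = 3 ^ 2 * 35 by norm_num,
      Nat.factorization_mul (by norm_num) (by norm_num), Finsupp.add_apply,
      Nat.Prime.factorization_pow (by norm_num), Finsupp.single_eq_same,
      Nat.factorization_eq_zero_of_not_dvd (n := 35) (by norm_num)]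
  have h5 : Nat.card (P5 : Subgroup G) = 5 ^ 1 := by
    rw [P5.card_eq_multiplicity, h, show (315 : ℕ) = 5 ^ 1 * 63 by norm_num,
      Nat.factorization_mul (by norm_num) (by norm_num), Finsupp.add_apply,
      Nat.Prime.factorization_pow (by norm_num), Finsupp.single_eq_same,
      Nat.factorization_eq_zero_of_not_dvd (n := 63) (by norm_num)]
  have hi3 : (P3 : Subgroup G).index = 35 := by
    have := Subgroup.card_mul_index (P3 : Subgroup G); rw [h3, h] at this; omega
  have hi5 : (P5 : Subgroup G).index = 63 := by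
    have := Subgroup.card_mul_index (P5 : Subgroup G); rw [h5, h] at this; omega
  have hd5 : Nat.card (Sylow 5 G) ∣ 63 := hi5 ▸ P5.card_dvd_index
  have hd3 : Nat.card (Sylow 3 G) ∣ 35 := hi3 ▸ P3.card_dvd_index
  have hm5 : Nat.card (Sylow 5 G) % 5 = 1 % 5 := card_sylow_modEq_one 5 G
  have hm3 : Nat.card (Sylow 3 G) % 3 = 1 % 3 := card_sylow_modEq_one 3 G
  have hn5 : Nat.card (Sylow 5 G) = 1 ∨ Nat.card (Sylow 5 G) = 21 := by
    have := Nat.le_of_dvd (by norm_num) hd5
    interval_cases h : Nat.card (Sylow 5 G) <;> omega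
  rcases hn5 with hn | hn5
  · exact solvable_of_sylow_unique (p := 5) (q := 3) (a := 2) (b := 1) (k := 1) (by norm_num)
      (by norm_num : Nat.Prime 7) P5 hn h5 (by rw [h]; norm_num)
  have hn3 : Nat.card (Sylow 3 G) = 1 ∨ Nat.card (Sylow 3 G) = 7 := by
    have := Nat.le_of_dvd (by norm_num) hd3
    interval_cases h : Nat.card (Sylow 3 G) <;> omega
  rcases hn3 with hn | hn3
  · exact solvable_of_sylow_unique (p := 3) (q := 5) (a := 1) (b := 1) (k := 2) (by norm_num)
      (by norm_num : Nat.Prime 7) P3 hn h3 (by rw [h]; norm_num)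
  exfalso
  set H := Subgroup.normalizer (P3 : Set G) with hH
  have hHc : Nat.card H = 45 := by
    have hidx : H.index = 7 := by rw [hH, ← P3.card_eq_index_normalizer, hn3]
    have := Subgroup.card_mul_index H
    rw [hidx, h] at this; omega
  obtain ⟨R⟩ : Nonempty (Sylow 5 H) := inferInstance
  have hR : Nat.card (R : Subgroup H) = 5 := by
    rw [R.card_eq_multiplicity, hHc, show (45 : ℕ) = 5 * 9 by norm_num,
      Nat.factorization_mul (by norm_num) (by norm_num), Finsupp.add_apply,
      Nat.Prime.factorization_self (by norm_num), Nat.factorization_eq_zero_of_not_dvd (by norm_num)]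
    rfl
  have hRn : Nat.card (Sylow 5 H) = 1 := by
    have h1 : Nat.card (Sylow 5 H) ∣ 9 := by
      have h2 := R.card_dvd_index
      have h3 := Subgroup.card_mul_index (R : Subgroup H)
      rw [hR, hHc] at h3
      rwa [show (R : Subgroup H).index = 9 by omega] at h2
    have h2 : Nat.card (Sylow 5 H) % 5 = 1 % 5 := card_sylow_modEq_one 5 H
    have := Nat.le_of_dvd (by norm_num) h1
    interval_cases h : Nat.card (Sylow 5 H) <;> omega
  haveI : Subsingleton (Sylow 5 H) := (Nat.card_eq_one_iff_unique.mp hRn).1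
  haveI : (R : Subgroup H).Normal := R.normal_of_subsingleton
  have hcard : Nat.card ((R : Subgroup H).map H.subtype) = 5 ^ 1 := by
    rw [Subgroup.card_map_of_injective H.subtype_injective, hR, pow_one]
  obtain ⟨Q, hQ⟩ := (IsPGroup.of_card hcard).exists_le_sylow
  have hQc : Nat.card (Q : Subgroup G) = 5 ^ 1 := by rw [Q.card_eq_multiplicity, ← P5.card_eq_multiplicity, h5]
  have heq : (R : Subgroup H).map H.subtype = (Q : Subgroup G) :=
    Subgroup.eq_of_le_of_card_ge hQ (by rw [hQc, hcard])
  have hle : H ≤ Subgroup.normalizer (Q : Set G) := by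
    intro x hx
    show x ∈ Subgroup.normalizer ((Q : Subgroup G) : Set G)
    rw [← heq, Subgroup.mem_normalizer_iff]
    intro y
    constructor
    · rintro ⟨z, hz, rfl⟩
      exact ⟨⟨x, hx⟩ * z * ⟨x, hx⟩⁻¹, Subgroup.Normal.conj_mem inferInstance z hz _, by simp⟩
    · rintro ⟨z, hz, hzy⟩
      refine ⟨⟨x, hx⟩⁻¹ * z * ⟨x, hx⟩, ?_, ?_⟩
      · have hm := Subgroup.Normal.conj_mem (inferInstance : (R : Subgroup H).Normal) z hz (⟨x, hx⟩⁻¹ : H)
        rw [inv_inv] at hm
        exact hm
      · simp only [map_mul, map_inv, Subgroup.coe_subtype] at hzy ⊢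
        rw [hzy]; group
  have hi : (Subgroup.normalizer (Q : Set G)).index = 21 := by
    rw [← Q.card_eq_index_normalizer, hn5]
  have h1 := Subgroup.card_le_of_le hle
  have h2 := Subgroup.card_mul_index (Subgroup.normalizer (Q : Set G))
  rw [hHc] at h1; rw [hi, h] at h2; omega

theorem solvable_of_odd_dvd (hodd : Odd (Nat.card G)) (hd : Nat.card G ∣ 20160) : Group.IsSolvable G := by
  have h315 : Nat.card G ∣ 315 :=
    (Nat.Coprime.pow_right 6 (Nat.coprime_two_right.mpr hodd)).dvd_of_dvd_mul_left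
      (show Nat.card G ∣ 2 ^ 6 * 315 by norm_num; exact hd)
  by_cases h : Nat.card G = 315
  · exact solvable_of_card_315 h
  have : Nat.card G ∣ 3 ^ 2 * 5 ^ 1 ∨ Nat.card G ∣ 3 ^ 2 * 7 ^ 1 ∨ Nat.card G ∣ 5 ^ 1 * 7 ^ 1 ∨
      Nat.card G = 105 := by
    have hle := Nat.le_of_dvd (by norm_num) h315
    obtain ⟨k, hk⟩ := h315
    have hk0 : k ≠ 0 := by rintro rfl; simp at hk
    have hmem : Nat.card G ∈ Nat.divisors 315 := Nat.mem_divisors.mpr ⟨⟨k, hk⟩, by norm_num⟩
    revert hmem h
    generalize Nat.card G = n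
    intro h hmem
    rw [show Nat.divisors 315 = {1, 3, 5, 7, 9, 15, 21, 35, 45, 63, 105, 315} by decide +kernel] at hmem
    simp only [Finset.mem_insert, Finset.mem_singleton] at hmem
    rcases hmem with rfl | rfl | rfl | rfl | rfl | rfl | rfl | rfl | rfl | rfl | rfl | rfl <;> first | (exact absurd rfl h) | norm_num
  rcases this with h' | h' | h' | h'
  · exact solvable_of_dvd (by norm_num) (by norm_num) h'
  · exact solvable_of_dvd (by norm_num) (by norm_num) h'
  · exact solvable_of_dvd (by norm_num) (by norm_num) h'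
  · haveI : IsZGroup G := IsZGroup.of_squarefree (by
      rw [h', Nat.squarefree_iff_nodup_primeFactorsList (by norm_num)]; decide +kernel)
    infer_instance

theorem centralizer_card {σ : Perm (Fin 8)} {r : ℕ} (hr : r.Prime) (ho : orderOf σ = r) :
    (r = 7 → Nat.card (Subgroup.centralizer ({σ} : Set (Perm (Fin 8)))) = 7) ∧
    (r = 5 → Nat.card (Subgroup.centralizer ({σ} : Set (Perm (Fin 8)))) = 30) ∧
    (r = 3 → Nat.card (Subgroup.centralizer ({σ} : Set (Perm (Fin 8)))) = 36 ∨
      (σ.cycleType = {3} ∧ Nat.card (Subgroup.centralizer ({σ} : Set (Perm (Fin 8)))) = 360)) := by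
  haveI : Fact r.Prime := ⟨hr⟩
  obtain ⟨k, hk⟩ := Perm.cycleType_prime_order (σ := σ) (by rw [ho]; exact hr)
  rw [ho] at hk
  have hs : (k + 1) * r ≤ 8 := by
    have h : σ.cycleType.sum ≤ 8 := by
      rw [Perm.sum_cycleType]; exact (Finset.card_le_univ _).trans (Fintype.card_fin 8).le
    rwa [hk, Multiset.sum_replicate, smul_eq_mul] at h
  rw [Equiv.Perm.nat_card_centralizer, hk]
  refine ⟨?_, ?_, ?_⟩ <;> rintro rfl
  · obtain rfl : k = 0 := by omega
    decide +kernel
  · obtain rfl : k = 0 := by omega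
    decide +kernel
  · have : k ≤ 1 := by omega
    interval_cases k
    · exact Or.inr ⟨rfl, by decide +kernel⟩
    · exact Or.inl (by decide +kernel)

theorem nine_solvable (hG : Nat.card G ∣ 20160) (N : Subgroup G) [N.Normal] (hN : Nat.card N = 9)
    (hCd : Nat.card (MulAut.conjNormal : G →* MulAut N).ker ∣ 360) : Group.IsSolvable G := by
  set conj : G →* MulAut N := MulAut.conjNormal with hconj
  set C := conj.ker with hC
  have hNC : N ≤ C := by
    haveI : Fact (Nat.Prime 3) := ⟨Nat.prime_three⟩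
    have hab : ∀ a b : N, a * b = b * a :=
      IsPGroup.commutative_of_card_eq_prime_sq (p := 3) (by rw [hN]; norm_num)
    intro g hg
    rw [hC, MonoidHom.mem_ker]
    refine MulEquiv.ext fun a => Subtype.ext ?_
    have h := congrArg Subtype.val (hab ⟨g, hg⟩ a)
    simp only [Subgroup.coe_mul] at h
    rw [hconj, MulAut.conjNormal_apply, h]
    simp
  have hfix : ∀ p : ℕ, p = 5 ∨ p = 7 → ∀ g : G, orderOf g ∣ p → g ∈ C := by
    intro p hp g hg
    haveI : Fact p.Prime := ⟨by rcases hp with rfl | rfl <;> norm_num⟩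
    letI : MulAction (Subgroup.zpowers g) N :=
      MulAction.compHom N (conj.comp (Subgroup.zpowers g).subtype)
    have hpg : IsPGroup p (Subgroup.zpowers g) := by
      obtain ⟨i, -, hi⟩ := (Nat.dvd_prime_pow (Fact.out : p.Prime)).mp (show orderOf g ∣ p ^ 1 by rwa [pow_one])
      exact IsPGroup.of_card (n := i) (by rw [Nat.card_zpowers, hi])
    have hmod := hpg.card_modEq_card_fixedPoints N
    let F : Subgroup N :=
      { carrier := MulAction.fixedPoints (Subgroup.zpowers g) N
        one_mem' := fun z => map_one (conj z)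
        mul_mem' := fun {a b} ha hb z => by
          show conj z (a * b) = a * b
          rw [map_mul]; exact congrArg₂ (· * ·) (ha z) (hb z)
        inv_mem' := fun {a} ha z => by
          show conj z a⁻¹ = a⁻¹
          rw [map_inv]; exact congrArg (·⁻¹) (ha z) }
    have hFc : Nat.card (MulAction.fixedPoints (Subgroup.zpowers g) N) = Nat.card F := rfl
    have hd : Nat.card F ∣ 9 := hN ▸ Subgroup.card_subgroup_dvd_card F
    rw [hFc, hN] at hmod
    have h9 : Nat.card F = 9 := by
      have hmem : Nat.card F ∈ Nat.divisors 9 := Nat.mem_divisors.mpr ⟨hd, by norm_num⟩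
      rw [show Nat.divisors 9 = {1, 3, 9} by decide +kernel] at hmem
      simp only [Finset.mem_insert, Finset.mem_singleton] at hmem
      rcases hmem with h | h | h <;> rw [h] at hmod <;> rcases hp with rfl | rfl <;>
        first | exact h | (exact absurd hmod (by decide))
    have htop : F = ⊤ := Subgroup.eq_top_of_card_eq F (h9.trans hN.symm)
    rw [hC, MonoidHom.mem_ker]
    exact MulEquiv.ext fun a => (show a ∈ F from htop ▸ Subgroup.mem_top a) ⟨g, Subgroup.mem_zpowers g⟩
  have hidx : C.index ∣ 2 ^ 6 := by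
    have hdiv : ∀ p : ℕ, p = 5 ∨ p = 7 → ¬ p ∣ C.index := by
      intro p hp hpd
      haveI : Fact p.Prime := ⟨by rcases hp with rfl | rfl <;> norm_num⟩
      obtain ⟨P⟩ : Nonempty (Sylow p G) := inferInstance
      have hPc : Nat.card (P : Subgroup G) ∣ p := by
        obtain ⟨i, hi⟩ := P.isPGroup'.exists_card_eq
        rw [hi]
        have hi' : i ≤ 1 := by
          by_contra h
          have : p ^ 2 ∣ 20160 := (pow_dvd_pow p (by omega : 2 ≤ i)).trans
            (hi ▸ (Subgroup.card_subgroup_dvd_card _).trans hG)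
          rcases hp with rfl | rfl <;> norm_num at this
        exact (pow_dvd_pow p hi').trans (by rw [pow_one])
      have hPC : (P : Subgroup G) ≤ C := fun g hg => hfix p hp g
        ((Subgroup.orderOf_dvd_natCard _ hg).trans hPc)
      exact P.not_dvd_index (hpd.trans (Subgroup.index_dvd_of_le hPC))
    have hd : C.index ∣ 2240 := by
      refine (Subgroup.index_dvd_of_le hNC).trans ?_
      have h := Subgroup.card_mul_index N
      rw [hN] at h
      obtain ⟨c, hc⟩ := hG
      exact ⟨c, by rw [← h] at hc; nlinarith [hc]⟩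
    have h5 : Nat.Coprime C.index 5 := ((Nat.Prime.coprime_iff_not_dvd (by norm_num)).mpr (hdiv 5 (Or.inl rfl))).symm
    have h7 : Nat.Coprime C.index 7 := ((Nat.Prime.coprime_iff_not_dvd (by norm_num)).mpr (hdiv 7 (Or.inr rfl))).symm
    exact (h5.mul_right h7).dvd_of_dvd_mul_right (show C.index ∣ 2 ^ 6 * (5 * 7) by norm_num; exact hd)
  have hCs : Group.IsSolvable C := by
    refine solvable_of_normal (H := N.subgroupOf C) ?_ (solvable_of_dvd (a := 3) (b := 1) Nat.prime_two
      (by norm_num : Nat.Prime 5) ?_)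
    · exact solvable_of_dvd (a := 2) (b := 0) Nat.prime_three Nat.prime_two
        (by rw [Nat.card_congr (Subgroup.subgroupOfEquivOfLe hNC).toEquiv, hN]; norm_num)
    · have h := Subgroup.card_eq_card_quotient_mul_card_subgroup (N.subgroupOf C)
      rw [Nat.card_congr (Subgroup.subgroupOfEquivOfLe hNC).toEquiv, hN] at h
      obtain ⟨c, hc⟩ := hCd
      exact ⟨c, by rw [h] at hc; nlinarith [hc]⟩
  exact solvable_of_normal (H := C) hCs (solvable_of_dvd (a := 6) (b := 0) Nat.prime_two Nat.prime_three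
    (by rw [← Subgroup.index_eq_card, pow_zero, mul_one]; exact hidx))

theorem three_cycle (f : G →* Perm (Fin 8)) (hf : Function.Injective f)
    (heven : ∀ g, f g ∈ alternatingGroup (Fin 8)) (hns : ¬ Group.IsSolvable G) (O : Subgroup G) [O.Normal]
    (hodd : Odd (Nat.card O)) (N : Subgroup G) [hNn : N.Normal] (hNO : N ≤ O) (hN3 : Nat.card N = 3) (x : G)
    (hNz : N = Subgroup.zpowers x) (htype : (f x).cycleType = {3}) :
    Nat.card O = 3 ∧ (Nonempty (G ⧸ O ≃* alternatingGroup (Fin 5)) ∨ Nonempty (G ⧸ O ≃* Perm (Fin 5))) := by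
  classical
  have hsupp : (f x).support.card = 3 := by rw [← Perm.sum_cycleType, htype]; rfl
  have hinv : ∀ (g : G) (y : Fin 8), f x y = y → f x (f g y) = f g y := by
    intro g y hy
    obtain ⟨i, hi⟩ : g⁻¹ * x * g ∈ Subgroup.zpowers x := by
      rw [← hNz]
      simpa using hNn.conj_mem x (hNz ▸ Subgroup.mem_zpowers x) g⁻¹
    have h2 : f x * f g = f g * (f x) ^ i := by
      rw [← map_zpow, ← map_mul, ← map_mul, show x ^ i = g⁻¹ * x * g from hi]
      congr 1; group
    have h3 := congrArg (fun σ : Perm (Fin 8) => σ y) h2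
    simp only [Perm.mul_apply] at h3
    rw [h3, Perm.zpow_apply_eq_self_of_apply_eq_self hy]
  have hiff : ∀ (g : G) (y : Fin 8), f x (f g y) = f g y ↔ f x y = y := by
    intro g y
    refine ⟨fun h => ?_, hinv g y⟩
    have := hinv g⁻¹ (f g y) h
    rwa [← Perm.mul_apply (f g⁻¹), ← map_mul, inv_mul_cancel, map_one, Perm.one_apply] at this
  let φ : G →* Perm {y : Fin 8 // f x y = y} :=
    MonoidHom.mk' (fun g => (f g).subtypePerm (hiff g)) fun g g' => Equiv.ext fun y => Subtype.ext
      (DFunLike.congr_fun (map_mul f g g') y.1)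
  have hNK : N ≤ φ.ker := by
    rw [hNz, Subgroup.zpowers_le, MonoidHom.mem_ker]
    exact Equiv.ext fun y => Subtype.ext y.2
  have hK3 : Nat.card φ.ker ≤ 3 := by
    have hkfix : ∀ z : φ.ker, ∀ y, f x y = y → f (z : G) y = y := fun z y hy =>
      congrArg Subtype.val (DFunLike.congr_fun (MonoidHom.mem_ker.mp z.2) (⟨y, hy⟩ : {w : Fin 8 // f x w = w}))
    have hkinv : ∀ z : φ.ker, ∀ y, f x (f (z : G) y) ≠ f (z : G) y ↔ f x y ≠ y := fun z y =>
      not_congr (hiff z y)
    let ψ : φ.ker → alternatingGroup {y : Fin 8 // f x y ≠ y} := fun z =>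
      ⟨(f (z : G)).subtypePerm (hkinv z), by
        rw [Perm.mem_alternatingGroup]
        exact (Perm.sign_subtypePerm (p := fun w => f x w ≠ w) _ (hkinv z) (fun y hy e => hy (hkfix z y e))).trans
          (Perm.mem_alternatingGroup.mp (heven z))⟩
    have hψ : Function.Injective ψ := by
      intro z z' h
      refine Subtype.ext (hf (Equiv.ext fun y => ?_))
      by_cases hy : f x y = y
      · rw [hkfix z y hy, hkfix z' y hy]
      · exact congrArg Subtype.val (DFunLike.congr_fun (congrArg Subtype.val h) ⟨y, hy⟩)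
    have h3 : Fintype.card {y : Fin 8 // f x y ≠ y} = 3 := by
      rw [← hsupp, Fintype.card_subtype]
      exact congrArg Finset.card (Finset.ext fun y => by simp)
    haveI : Nontrivial {y : Fin 8 // f x y ≠ y} := Fintype.one_lt_card_iff_nontrivial.mp (by omega)
    refine (Nat.card_le_card_of_injective ψ hψ).trans (le_of_eq ?_)
    rw [nat_card_alternatingGroup, Nat.card_eq_fintype_card, h3]
    rfl
  have hKN : φ.ker = N := (Subgroup.eq_of_le_of_card_ge hNK (by omega)).symm
  have h5 : Fintype.card {y : Fin 8 // f x y = y} = 5 := by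
    have := Fintype.card_subtype_compl fun y => f x y ≠ y
    simp only [ne_eq, not_not] at this
    rw [this, Fintype.card_fin, Fintype.card_subtype]
    rw [show (Finset.univ.filter fun y => ¬ f x y = y) = (f x).support from Finset.ext fun y => by simp, hsupp]
  let e5 : Perm {y : Fin 8 // f x y = y} ≃* Perm (Fin 5) := (Fintype.equivFinOfCardEq h5).permCongrHom
  let η : G →* Perm (Fin 5) := e5.toMonoidHom.comp φ
  have hηk : η.ker = N := by
    ext g
    rw [MonoidHom.mem_ker, ← hKN, MonoidHom.mem_ker]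
    exact e5.map_eq_one_iff
  have hM : ¬ Group.IsSolvable η.range := fun hs => by
    haveI := hs
    refine hns (solvable_of_normal (H := N) (solvable_of_dvd (a := 1) (b := 0) Nat.prime_three Nat.prime_two
      (by rw [hN3]; norm_num)) ?_)
    exact solvable_of_solvable_injective
      (f := ((QuotientGroup.quotientMulEquivOfEq hηk.symm).trans (QuotientGroup.quotientKerEquivRange η)).toMonoidHom)
      (MulEquiv.injective _)
  haveI hA5 : IsSimpleGroup (alternatingGroup (Fin 5)) := alternatingGroup.isSimpleGroup (by simp)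
  have h60 : Nat.card (alternatingGroup (Fin 5)) = 60 := by
    rw [nat_card_alternatingGroup, Nat.card_fin]; rfl
  have hAM : alternatingGroup (Fin 5) ≤ η.range := by
    set L : Subgroup η.range := (alternatingGroup (Fin 5)).subgroupOf η.range
    set L' : Subgroup (alternatingGroup (Fin 5)) := η.range.subgroupOf (alternatingGroup (Fin 5))
    by_contra hno
    have hL' : L' ≠ ⊤ := fun h => hno (Subgroup.subgroupOf_eq_top.mp h)
    let ι : L →* L' :=
      { toFun := fun z => ⟨⟨z.1.1, z.2⟩, z.1.2⟩
        map_one' := rfl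
        map_mul' := fun _ _ => rfl }
    have hι : Function.Injective ι := fun a b h =>
      Subtype.ext (Subtype.ext (congrArg (fun z : L' => z.1.1) h))
    have hs : Group.IsSolvable L' := by
      have hd : Nat.card L' ∣ 60 := h60 ▸ Subgroup.card_subgroup_dvd_card L'
      have hne : Nat.card L' ≠ 60 := fun h => hL' (Subgroup.eq_top_of_card_eq L' (h.trans h60.symm))
      have hmem : Nat.card L' ∈ Nat.divisors 60 := Nat.mem_divisors.mpr ⟨hd, by norm_num⟩
      rw [show Nat.divisors 60 = {1, 2, 3, 4, 5, 6, 10, 12, 15, 20, 30, 60} by decide +kernel] at hmem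
      simp only [Finset.mem_insert, Finset.mem_singleton] at hmem
      rcases hmem with h | h | h | h | h | h | h | h | h | h | h | h <;>
        first
          | exact solvable_of_dvd (a := 2) (b := 1) Nat.prime_two Nat.prime_three (by rw [h]; decide +kernel)
          | exact isSolvable_of_card_le_forty_five (by rw [h]; decide +kernel)
          | exact absurd h hne
    haveI := hs
    refine hM (solvable_of_normal (H := L) (solvable_of_solvable_injective hι)
      (solvable_of_dvd (a := 1) (b := 0) Nat.prime_two Nat.prime_three ?_))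
    rw [← Subgroup.index_eq_card, pow_zero, mul_one, pow_one, ← alternatingGroup.index_eq_two (α := Fin 5)]
    exact Subgroup.relIndex_dvd_index_of_normal _ _
  have hON : O = N := by
    refine le_antisymm (fun g hg => ?_) hNO
    rw [← hηk, MonoidHom.mem_ker]
    have ho : Odd (orderOf (η g)) := (hodd.of_dvd_nat (Subgroup.orderOf_dvd_natCard O hg)).of_dvd_nat
      (orderOf_map_dvd η g)
    have hsign : η g ∈ alternatingGroup (Fin 5) := by
      rw [Perm.mem_alternatingGroup, ← orderOf_eq_one_iff]
      have h1 : orderOf (Perm.sign (η g)) ∣ 2 := orderOf_dvd_of_pow_eq_one (Int.units_sq _)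
      exact Nat.eq_one_of_dvd_coprimes (Nat.coprime_two_right.mpr ho) (orderOf_map_dvd Perm.sign (η g)) h1
    have hnorm : ((O.map η).subgroupOf (alternatingGroup (Fin 5))).Normal := by
      refine ⟨fun a ha b => ?_⟩
      rw [Subgroup.mem_subgroupOf] at ha ⊢
      obtain ⟨o, ho', hoe⟩ := ha
      obtain ⟨h, hh⟩ := hAM b.2
      exact ⟨h * o * h⁻¹, Subgroup.Normal.conj_mem inferInstance o ho' h, by simp [hh, hoe]⟩
    rcases hnorm.eq_bot_or_eq_top with h | h
    · have : (⟨η g, hsign⟩ : alternatingGroup (Fin 5)) ∈ (O.map η).subgroupOf (alternatingGroup (Fin 5)) :=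
        ⟨g, hg, rfl⟩
      rw [h, Subgroup.mem_bot] at this
      exact congrArg Subtype.val this
    · exfalso
      have h1 := Subgroup.card_dvd_of_le (Subgroup.subgroupOf_eq_top.mp h)
      rw [h60] at h1
      exact absurd ((hodd.of_dvd_nat (Subgroup.card_map_dvd O η)).of_dvd_nat h1) (by decide)
  refine ⟨hON ▸ hN3, ?_⟩
  let e : G ⧸ O ≃* η.range :=
    (QuotientGroup.quotientMulEquivOfEq (hON.trans hηk.symm)).trans (QuotientGroup.quotientKerEquivRange η)
  rcases (Nat.dvd_prime Nat.prime_two).mp
    (alternatingGroup.index_eq_two (α := Fin 5) ▸ Subgroup.index_dvd_of_le hAM) with h | h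
  · exact Or.inr ⟨e.trans ((MulEquiv.subgroupCongr (Subgroup.index_eq_one.mp h)).trans Subgroup.topEquiv)⟩
  · exact Or.inl ⟨e.trans (MulEquiv.subgroupCongr (Equiv.Perm.eq_alternatingGroup_of_index_eq_two h))⟩

/-- a nontrivial normal subgroup of odd order has order three and the quotient is `A₅` or `S₅` -/
theorem odd_normal (f : G →* Perm (Fin 8)) (hf : Function.Injective f)
    (heven : ∀ g, f g ∈ alternatingGroup (Fin 8)) (hns : ¬ Group.IsSolvable G) (O : Subgroup G) [O.Normal]
    (hodd : Odd (Nat.card O)) (hO : O ≠ ⊥) :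
    Nat.card O = 3 ∧ (Nonempty (G ⧸ O ≃* alternatingGroup (Fin 5)) ∨ Nonempty (G ⧸ O ≃* Perm (Fin 5))) := by
  classical
  have hG : Nat.card G ∣ 20160 := by
    rw [Nat.card_congr (MonoidHom.ofInjective hf).toEquiv]
    refine (Subgroup.card_dvd_of_le (K := alternatingGroup (Fin 8)) ?_).trans ?_
    · rintro _ ⟨g, rfl⟩; exact heven g
    · rw [nat_card_alternatingGroup, Nat.card_fin]; norm_num [Nat.factorial]
  haveI : Group.IsSolvable O := solvable_of_odd_dvd hodd ((Subgroup.card_subgroup_dvd_card O).trans hG)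
  -- the last nontrivial derived subgroup
  obtain ⟨A, hAO, hAn, hA1, hAab⟩ : ∃ A : Subgroup G, A ≤ O ∧ A.Normal ∧ A ≠ ⊥ ∧
      ∀ a ∈ A, ∀ b ∈ A, a * b = b * a := by
    have key : ∀ m, ∀ N : Subgroup G, Nat.card N = m → N ≤ O → N.Normal → N ≠ ⊥ →
        ∃ A : Subgroup G, A ≤ O ∧ A.Normal ∧ A ≠ ⊥ ∧ ∀ a ∈ A, ∀ b ∈ A, a * b = b * a := by
      intro m
      induction m using Nat.strong_induction_on with
      | _ m ih =>
        intro N hm hNO hN hne
        haveI := hN
        by_cases hb : (⁅N, N⁆ : Subgroup G) = ⊥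
        · refine ⟨N, hNO, hN, hne, fun a ha b hb' => ?_⟩
          have := Subgroup.commutator_mem_commutator ha hb'
          rwa [hb, Subgroup.mem_bot, commutatorElement_eq_one_iff_mul_comm] at this
        · haveI : Nontrivial N := (Subgroup.nontrivial_iff_ne_bot N).2 hne
          haveI : Group.IsSolvable N := solvable_of_solvable_injective (Subgroup.inclusion_injective hNO)
          have hlt : (⁅N, N⁆ : Subgroup G) < N := by
            refine lt_of_le_of_ne (Subgroup.commutator_le_left _ _) fun h => ?_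
            refine (Group.IsSolvable.commutator_lt_top_of_nontrivial N).ne ?_
            apply Subgroup.map_injective N.subtype_injective
            rw [commutator_def, Subgroup.map_commutator, ← MonoidHom.range_eq_map, Subgroup.range_subtype, h]
          refine ih _ ?_ ⁅N, N⁆ rfl (hlt.le.trans hNO) inferInstance hb
          subst hm
          exact lt_of_le_of_ne (Subgroup.card_le_of_le hlt.le) fun e =>
            hlt.ne (Subgroup.eq_of_le_of_card_ge hlt.le e.ge)
    exact key _ O rfl le_rfl inferInstance hO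
  haveI : Nontrivial A := (Subgroup.nontrivial_iff_ne_bot A).2 hA1
  obtain ⟨r, hr, hrA⟩ := Nat.exists_prime_and_dvd (Finite.one_lt_card (α := A)).ne'
  haveI : Fact r.Prime := ⟨hr⟩
  obtain ⟨x, hx⟩ := exists_prime_orderOf_dvd_card' (G := A) r hrA
  obtain ⟨N, hNdef⟩ : ∃ N : Subgroup G, ∀ a, a ∈ N ↔ a ∈ A ∧ a ^ r = 1 :=
    ⟨{ carrier := {a | a ∈ A ∧ a ^ r = 1}
       one_mem' := ⟨one_mem A, one_pow r⟩
       mul_mem' := fun {a b} ha hb => ⟨mul_mem ha.1 hb.1, by
         rw [Commute.mul_pow (show Commute a b from hAab a ha.1 b hb.1), ha.2, hb.2, mul_one]⟩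
       inv_mem' := fun {a} ha => ⟨inv_mem ha.1, by rw [inv_pow, ha.2, inv_one]⟩ }, fun a => Iff.rfl⟩
  haveI hNn : N.Normal := ⟨fun a ha g => (hNdef _).mpr ⟨hAn.conj_mem a ((hNdef a).mp ha).1 g,
    by rw [conj_pow, ((hNdef a).mp ha).2]; simp⟩⟩
  have hNp : IsPGroup r N := fun a => ⟨1, Subtype.ext (by simpa using ((hNdef a).mp a.2).2)⟩
  have hxN : (x : G) ∈ N := (hNdef _).mpr ⟨x.2, by rw [← SubmonoidClass.coe_pow, ← hx, pow_orderOf_eq_one]; rfl⟩
  have hNO : N ≤ O := fun a ha => hAO ((hNdef a).mp ha).1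
  have hxo : orderOf (x : G) = r := by rw [Subgroup.orderOf_coe, hx]
  obtain ⟨k, hk⟩ := hNp.exists_card_eq
  have hN315 : Nat.card N ∣ 315 :=
    (Nat.Coprime.pow_right 6 (Nat.coprime_two_right.mpr (hodd.of_dvd_nat (Subgroup.card_dvd_of_le hNO)))).dvd_of_dvd_mul_left
      (show Nat.card N ∣ 2 ^ 6 * 315 by norm_num; exact (Subgroup.card_subgroup_dvd_card N).trans hG)
  have hk0 : k ≠ 0 := by
    rintro rfl
    have hb := Subgroup.card_eq_one.mp (hk.trans (pow_zero r))
    rw [hb, Subgroup.mem_bot] at hxN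
    rw [hxN, orderOf_one] at hxo
    exact hr.one_lt.ne hxo
  have hr357 : (r = 3 ∧ k ≤ 2) ∨ (r = 5 ∧ k = 1) ∨ (r = 7 ∧ k = 1) := by
    rw [hk] at hN315
    have hr3 : r ∣ 315 := (dvd_pow_self r hk0).trans hN315
    have hrle := Nat.le_of_dvd (by norm_num) hr3
    have hk' : k ≤ (315 : ℕ).factorization r := (hr.pow_dvd_iff_le_factorization (by norm_num)).mp hN315
    have hr' : r = 3 ∨ r = 5 ∨ r = 7 := by
      have h' : r ∣ 3 ^ 2 * 5 * 7 := by norm_num; exact hr3
      rcases hr.dvd_mul.mp h' with h | h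
      · rcases hr.dvd_mul.mp h with h | h
        · exact Or.inl ((Nat.prime_dvd_prime_iff_eq hr Nat.prime_three).mp (hr.dvd_of_dvd_pow h))
        · exact Or.inr (Or.inl ((Nat.prime_dvd_prime_iff_eq hr (by norm_num)).mp h))
      · exact Or.inr (Or.inr ((Nat.prime_dvd_prime_iff_eq hr (by norm_num)).mp h))
    rcases hr' with rfl | rfl | rfl
    · left; refine ⟨rfl, ?_⟩
      by_contra hc
      have : 3 ^ 3 ∣ 315 := (pow_dvd_pow 3 (by omega)).trans hN315
      norm_num at this
    · right; left; refine ⟨rfl, ?_⟩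
      by_contra hc
      have : 5 ^ 2 ∣ 315 := (pow_dvd_pow 5 (by omega)).trans hN315
      norm_num at this
    · right; right; refine ⟨rfl, ?_⟩
      by_contra hc
      have : 7 ^ 2 ∣ 315 := (pow_dvd_pow 7 (by omega)).trans hN315
      norm_num at this
  let conj : G →* MulAut N := MulAut.conjNormal
  set C := conj.ker with hC
  have hCle : C ≤ Subgroup.centralizer ({(x : G)} : Set G) := by
    intro g hg
    rw [Subgroup.mem_centralizer_singleton_iff]
    have h1 := congrArg Subtype.val (DFunLike.congr_fun (MonoidHom.mem_ker.mp hg) (⟨_, hxN⟩ : N))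
    simp only [conj, MulAut.conjNormal_apply, MulAut.one_apply] at h1
    rwa [mul_inv_eq_iff_eq_mul] at h1
  have hCd : Nat.card C ∣ Nat.card (Subgroup.centralizer ({f x} : Set (Perm (Fin 8)))) := by
    rw [← Subgroup.card_map_of_injective (K := C) hf]
    refine Subgroup.card_dvd_of_le ?_
    rintro _ ⟨g, hg, rfl⟩
    rw [Subgroup.mem_centralizer_singleton_iff, ← map_mul, ← map_mul,
      Subgroup.mem_centralizer_singleton_iff.mp (hCle hg)]
  have hfo : orderOf (f x) = r := by rw [orderOf_injective f hf, hxo]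
  obtain ⟨c7, c5, c3⟩ := centralizer_card hr hfo
  have hcyc : k = 1 → ¬ Group.IsSolvable C := by
    intro hk1 hs
    haveI : IsCyclic N := isCyclic_of_prime_card (hk.trans (by rw [hk1, pow_one]))
    haveI : Group.IsSolvable (MulAut N) := isSolvable_of_comm fun a b => by
      apply (IsCyclic.mulAutMulEquiv N).injective
      rw [map_mul, map_mul, mul_comm]
    refine hns (solvable_of_normal (H := C) hs ?_)
    exact solvable_of_solvable_injective (f := QuotientGroup.kerLift conj) (QuotientGroup.kerLift_injective conj)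
  rcases hr357 with ⟨rfl, hk2⟩ | ⟨rfl, hk1⟩ | ⟨rfl, hk1⟩
  rotate_left
  · refine (hcyc hk1 ?_).elim
    rw [c5 rfl] at hCd
    have hmem : Nat.card C ∈ Nat.divisors 30 := Nat.mem_divisors.mpr ⟨hCd, by norm_num⟩
    rw [show Nat.divisors 30 = {1, 2, 3, 5, 6, 10, 15, 30} by decide +kernel] at hmem
    simp only [Finset.mem_insert, Finset.mem_singleton] at hmem
    rcases hmem with h | h | h | h | h | h | h | h
    iterate 3 exact solvable_of_dvd (a := 1) (b := 1) Nat.prime_two Nat.prime_three (by rw [h]; norm_num)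
    · exact isSolvable_of_card_le_forty_five (by rw [h]; simp)
    · exact solvable_of_dvd (a := 1) (b := 1) Nat.prime_two Nat.prime_three (by rw [h]; norm_num)
    all_goals exact isSolvable_of_card_le_forty_five (by rw [h]; simp)
  · refine (hcyc hk1 ?_).elim
    rw [c7 rfl] at hCd
    exact solvable_of_dvd (a := 1) (b := 0) hr Nat.prime_two (by simpa using hCd)
  rcases c3 rfl with h36 | ⟨htype, h360⟩
  · have hCs : Group.IsSolvable C := solvable_of_dvd (a := 2) (b := 2) Nat.prime_two Nat.prime_three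
      (hCd.trans (by rw [h36]; norm_num))
    rcases (show k = 1 ∨ k = 2 by omega) with hk1 | hk2
    · exact (hcyc hk1 hCs).elim
    · exact (hns (nine_solvable hG N (hk.trans (by rw [hk2]; norm_num)) (hCd.trans (by rw [h36]; norm_num)))).elim
  rcases (show k = 1 ∨ k = 2 by omega) with hk1 | hk2
  swap
  · exact (hns (nine_solvable hG N (hk.trans (by rw [hk2]; norm_num)) (hCd.trans (by rw [h360])))).elim
  have hN3 : Nat.card N = 3 := by rw [hk, hk1, pow_one]
  have hNz : N = Subgroup.zpowers (x : G) :=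
    (Subgroup.eq_of_le_of_card_ge (Subgroup.zpowers_le.mpr hxN) (by rw [Nat.card_zpowers, hxo, hN3])).symm
  exact three_cycle f hf heven hns O hodd N hNO hN3 x hNz htype

end Cfsg.Agent.Lib.SectionalFour
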