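import Cfsg.Prelude.Def_CaseTheorems
import Cfsg.Agent.Lib.Classical.SpFourTwo

/-!
An extension of an elementary group of order sixteen by the natural `S₆ ≅ Sp₄(2)` has sectional rank
at least five.
-/

set_option autoImplicit false
set_option linter.style.haveILetI false

namespace Cfsg.Agent.Lib.SectionalFour

open Equiv Matrix
open Cfsg.Agent.Lib.Classical (sixMat sixMat_mul sixMat_injective)

abbrev V4 : Type := Fin 2 ⊕ Fin 2 → ZMod 2
abbrev T3 : Type := Multiplicative (Fin 3 → ZMod 2)

theorem sixMat_one : sixMat 1 = 1 := by decide +kernel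

/-- the natural representation of `S₆` -/
def sixHom : Perm (Fin 6) →* GL (Fin 2 ⊕ Fin 2) (ZMod 2) :=
  MonoidHom.toHomUnits (G := Perm (Fin 6))
    { toFun := sixMat, map_one' := sixMat_one, map_mul' := sixMat_mul }

theorem sixHom_coe (π : Perm (Fin 6)) :
    (sixHom π : Matrix (Fin 2 ⊕ Fin 2) (Fin 2 ⊕ Fin 2) (ZMod 2)) = sixMat π := rfl

theorem sixHom_injective : Function.Injective sixHom := by
  rw [injective_iff_map_eq_one]
  exact fun π h => sixMat_injective (congrArg Units.val h)

/-- three commuting transpositions -/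
def epsFun (t : T3) : Perm (Fin 6) :=
  (if Multiplicative.toAdd t 0 = 1 then swap 0 1 else 1) *
    (if Multiplicative.toAdd t 1 = 1 then swap 2 3 else 1) *
    (if Multiplicative.toAdd t 2 = 1 then swap 4 5 else 1)

theorem epsFun_mul : ∀ s t : T3, epsFun (s * t) = epsFun s * epsFun t := by decide +kernel

/-- the elementary group generated by them -/
def eps : T3 →* Perm (Fin 6) := MonoidHom.mk' epsFun epsFun_mul

theorem eps_injective : Function.Injective eps := by
  rw [injective_iff_map_eq_one]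
  decide +kernel

/-- an element centralising `eps t` -/
def piOf (t : T3) : Perm (Fin 6) :=
  if t = Multiplicative.ofAdd ![1, 0, 0] then swap 2 3 * swap 3 4
  else if t = Multiplicative.ofAdd ![0, 1, 0] then swap 0 1 * swap 1 4
  else if t = Multiplicative.ofAdd ![0, 0, 1] then swap 0 1 * swap 1 2
  else 1

theorem piOf_comm : ∀ t : T3, piOf t * epsFun t = epsFun t * piOf t := by decide +kernel

/-- the fixed vectors of the elementary group -/
def InW (v : V4) : Prop := ∀ t : T3, sixMat (epsFun t) *ᵥ v = v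

instance (v : V4) : Decidable (InW v) := by unfold InW; infer_instance

theorem square_class : ∀ t : T3, t ≠ 1 → ∀ v : V4, sixMat (epsFun t) *ᵥ v = v →
    (∃ u : V4, sixMat (piOf t) *ᵥ v = u + sixMat (epsFun t) *ᵥ u + v) → InW v := by decide +kernel

theorem card_moved :
    (Finset.univ.image fun v : V4 => fun t : T3 => sixMat (epsFun t) *ᵥ v + v).card = 4 := by decide +kernel

theorem v4_add_self (v : V4) : v + v = 0 := funext fun i => CharTwo.add_self_eq_zero (v i)

theorem not_sectional_four {X : Type*} [Group X] [Finite X] (Q : Subgroup X) [Q.Normal]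
    (c : ↥Q → V4) (hc : ∀ x y, c (x * y) = c x + c y) (hsurj : Function.Surjective c)
    (R : X →* GL (Fin 2 ⊕ Fin 2) (ZMod 2))
    (hR : ∀ g x, c (MulAut.conjNormal g x) = (R g : Matrix (Fin 2 ⊕ Fin 2) (Fin 2 ⊕ Fin 2) (ZMod 2)) *ᵥ c x)
    (hker : R.ker = Q) (hr : sixHom.range ≤ R.range) : ¬ Cfsg.SectionalPRankLE 2 4 X := by
  classical
  intro h4
  have hc1 : c 1 = 0 := by
    have h := hc 1 1
    rw [one_mul] at h
    rw [v4_add_self] at h
    exact h
  have hcinv : ∀ x, c x⁻¹ = c x := fun x => by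
    have h := hc x⁻¹ x
    rw [inv_mul_cancel, hc1] at h
    exact (eq_neg_of_add_eq_zero_left h.symm).trans (neg_eq_of_add_eq_zero_left (v4_add_self _))
  have hQ : ∀ g, g ∈ Q ↔ R g = 1 := fun g => by rw [← hker, MonoidHom.mem_ker]
  set Ē := (sixHom.comp eps).range with hE
  set S : Subgroup X := Ē.comap R with hS
  have hSt : ∀ s ∈ S, ∃ t, (R s : Matrix (Fin 2 ⊕ Fin 2) (Fin 2 ⊕ Fin 2) (ZMod 2)) = sixMat (epsFun t) := by
    rintro s ⟨t, ht⟩
    exact ⟨t, (congrArg Units.val ht).symm⟩
  let N' : Subgroup X :=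
    { carrier := {x | ∃ h : x ∈ Q, InW (c ⟨x, h⟩)}
      one_mem' := ⟨one_mem _, fun t => by rw [show (⟨1, one_mem Q⟩ : Q) = 1 from rfl, hc1, mulVec_zero]⟩
      mul_mem' := fun {x y} ⟨hx, wx⟩ ⟨hy, wy⟩ => ⟨mul_mem hx hy, fun t => by
        rw [show (⟨x * y, mul_mem hx hy⟩ : Q) = ⟨x, hx⟩ * ⟨y, hy⟩ from rfl, hc, mulVec_add, wx t, wy t]⟩
      inv_mem' := fun {x} ⟨hx, wx⟩ => ⟨inv_mem hx, fun t => by
        rw [show (⟨x⁻¹, inv_mem hx⟩ : Q) = (⟨x, hx⟩ : Q)⁻¹ from rfl, hcinv, wx t]⟩ }
  have hN'Q : N' ≤ Q := fun x hx => hx.1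
  have hQS : Q ≤ S := fun x hx => by
    show R x ∈ Ē
    rw [(hQ x).mp hx]; exact one_mem _
  let N : Subgroup S := N'.subgroupOf S
  haveI : N.Normal := ⟨fun n hn s => by
    obtain ⟨hnQ, hnW⟩ := hn
    obtain ⟨t, ht⟩ := hSt s s.2
    refine ⟨Subgroup.Normal.conj_mem inferInstance _ hnQ (s : X), ?_⟩
    have heq : (⟨(s : X) * (n : X) * (s : X)⁻¹, Subgroup.Normal.conj_mem inferInstance _ hnQ (s : X)⟩ : Q) =
        MulAut.conjNormal (s : X) ⟨_, hnQ⟩ := Subtype.ext (by simp)
    show InW (c ⟨(s : X) * (n : X) * (s : X)⁻¹, _⟩)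
    rw [heq, hR, ht, hnW t]
    exact hnW⟩
  -- squares
  have hsq : ∀ s : S, s * s ∈ N := by
    intro s
    obtain ⟨t, ht⟩ := s.2
    have hts : R (s : X) = sixHom (eps t) := ht.symm
    show (s : X) * (s : X) ∈ N'
    have hmem : (s : X) * (s : X) ∈ Q := by
      rw [hQ, map_mul, hts, ← map_mul, ← map_mul, show t * t = 1 from
        (show Multiplicative.ofAdd (Multiplicative.toAdd t + Multiplicative.toAdd t) = 1 by
          rw [show Multiplicative.toAdd t + Multiplicative.toAdd t = 0 from
            funext fun i => CharTwo.add_self_eq_zero _]; rfl), map_one, map_one]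
    refine ⟨hmem, ?_⟩
    by_cases ht1 : t = 1
    · have hsQ : (s : X) ∈ Q := by rw [hQ, hts, ht1, map_one, map_one]
      rw [show (⟨(s : X) * (s : X), hmem⟩ : Q) = ⟨_, hsQ⟩ * ⟨_, hsQ⟩ from rfl, hc, v4_add_self]
      exact fun t' => mulVec_zero _
    refine square_class t ht1 _ ?_ ?_
    · have h := hR (s : X) ⟨_, hmem⟩
      rw [hts, sixHom_coe] at h
      rw [show eps t = epsFun t from rfl] at h
      rw [← h]
      exact congrArg c (Subtype.ext (by rw [MulAut.conjNormal_apply]; group))
    · obtain ⟨g, hg⟩ := hr ⟨piOf t, rfl⟩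
      set q := g * (s : X) * g⁻¹ * (s : X)⁻¹ with hq
      have hqQ : q ∈ Q := by
        rw [hQ, hq, map_mul, map_mul, map_mul, map_inv, map_inv, hg, hts, ← map_inv, ← map_inv, ← map_mul,
          ← map_mul, ← map_mul, show eps t = epsFun t from rfl, piOf_comm, mul_inv_cancel_right, mul_inv_cancel,
          map_one]
      refine ⟨c ⟨q, hqQ⟩, ?_⟩
      have h1 := hR g ⟨_, hmem⟩
      have h2 := hR (s : X) ⟨q, hqQ⟩
      rw [hg, sixHom_coe] at h1
      rw [hts, sixHom_coe, show eps t = epsFun t from rfl] at h2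
      rw [← h1, ← h2, ← hc, ← hc]
      exact congrArg c (Subtype.ext (by
        simp only [MulAut.conjNormal_apply, Subgroup.coe_mul, hq]; group))
  -- the section is elementary of order 32
  have hexp : ∀ u : S ⧸ N, u * u = 1 := fun u => by
    induction u using QuotientGroup.induction_on with
    | H s => rw [← QuotientGroup.mk_mul, QuotientGroup.eq_one_iff]; exact hsq s
  have hcard : Nat.card (S ⧸ N) = 32 := by
    rw [← Subgroup.index_eq_card]
    show N'.relIndex S = 32
    rw [← Subgroup.relIndex_mul_relIndex N' Q S hN'Q hQS]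
    have h1 : Q.relIndex S = 8 := by
      rw [← hker, Subgroup.relIndex_ker, hS,
        Subgroup.map_comap_eq_self ((show Ē ≤ sixHom.range by rintro _ ⟨t, rfl⟩; exact ⟨eps t, rfl⟩).trans hr),
        hE, ← Nat.card_congr (MonoidHom.ofInjective
          (f := sixHom.comp eps) (sixHom_injective.comp eps_injective)).toEquiv]
      rw [Nat.card_eq_fintype_card]; rfl
    let ω : Q →* Multiplicative (T3 → V4) := MonoidHom.mk'
      (fun x => Multiplicative.ofAdd fun t => sixMat (epsFun t) *ᵥ c x + c x) fun x y => by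
        rw [← ofAdd_add]
        refine congrArg Multiplicative.ofAdd (funext fun t => ?_)
        simp only [Pi.add_apply, hc, mulVec_add]
        abel
    have h2 : N'.relIndex Q = 4 := by
      have hk : ω.ker = N'.subgroupOf Q := by
        ext x
        rw [MonoidHom.mem_ker]
        constructor
        · intro h
          refine ⟨x.2, fun t => ?_⟩
          have := congrFun (Multiplicative.ofAdd.injective (h.trans ofAdd_zero.symm)) t
          funext i
          exact CharTwo.add_eq_zero.mp (congrFun this i)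
        · rintro ⟨h, hw⟩
          refine (congrArg Multiplicative.ofAdd (funext fun t => ?_)).trans ofAdd_zero
          rw [show sixMat (epsFun t) *ᵥ c x = c x from hw t, v4_add_self]
          rfl
      rw [Subgroup.relIndex, ← hk, Subgroup.index_ker, ← card_moved, ← Set.ncard_coe_finset,
        ← Nat.card_coe_set_eq]
      refine Nat.card_congr (Equiv.subtypeEquiv Multiplicative.toAdd fun a => ?_)
      simp only [MonoidHom.mem_range, Finset.coe_image, Finset.coe_univ, Set.image_univ, Set.mem_range]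
      constructor
      · rintro ⟨x, rfl⟩; exact ⟨c x, rfl⟩
      · rintro ⟨v, hv⟩
        obtain ⟨x, rfl⟩ := hsurj v
        exact ⟨x, Multiplicative.toAdd.injective hv⟩
    rw [h1, h2]
  have hinv : ∀ u : S ⧸ N, u⁻¹ = u := fun u => inv_eq_of_mul_eq_one_right (hexp u)
  have hab : IsMulCommutative (⊤ : Subgroup (S ⧸ N)) := ⟨⟨fun a b => Subtype.ext (by
    show (a : S ⧸ N) * b = b * a
    rw [← hinv ((a : S ⧸ N) * b), _root_.mul_inv_rev, hinv, hinv])⟩⟩
  have h := h4 S N ⊤ hab fun a _ => by rw [pow_two]; exact hexp a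
  rw [Subgroup.card_top, hcard] at h
  norm_num at h

end Cfsg.Agent.Lib.SectionalFour
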