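import Cfsg.Agent.Lib.SectionalFour.Main

/-!
The remaining cases, and the final statement on sections.
-/

set_option autoImplicit false
set_option linter.style.haveILetI false

namespace Cfsg.Agent.Lib.SectionalFour

variable {P : Type*} [Group P]

/-- Coordinates on a fixed-point flag of a four group. -/
def coord (e1 e2 : P) (v : Four) : P := e1 ^ v.1.val * e2 ^ v.2.val

theorem coord_values (e1 e2 : P) : coord e1 e2 0 = 1 ∧ coord e1 e2 (1, 0) = e1 ∧
    coord e1 e2 (0, 1) = e2 ∧ coord e1 e2 ((1, 0) + (0, 1)) = e1 * e2 := by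
  refine ⟨?_, ?_, ?_, ?_⟩ <;> simp [coord, ZMod.val_one, ZMod.val_zero]

theorem exists_coord [Finite P] (hP : IsPGroup 2 P) {E : Subgroup P} (hn : E.Normal)
    (hsq : ∀ x ∈ E, x ^ 2 = 1) (hE : Nat.card E = 4) :
    ∃ ι : Four → P, Function.Injective ι ∧ (∀ v w, ι (v + w) = ι v * ι w) ∧
      (∀ x, x ∈ E ↔ ∃ v, ι v = x) ∧
      ∀ p : P, (∀ v, p * ι v * p⁻¹ = ι v) ∨ (∀ v, p * ι v * p⁻¹ = ι (shear v)) := by
  obtain ⟨e1, h1E, h11, hfix⟩ := Cfsg.Agent.Lib.PGroups.RankFourPair.exists_fixed hP (K := ⊤) (N := E)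
    (fun k _ x hx => hn.conj_mem x hx k) (fun h => by rw [h, Subgroup.card_bot] at hE; omega)
  obtain ⟨e2, h2E, h2n⟩ : ∃ e2 ∈ E, e2 ∉ Subgroup.zpowers e1 := by
    apply SetLike.not_le_iff_exists.1
    intro hle
    have := Subgroup.card_le_of_le hle
    rw [Nat.card_zpowers, hE] at this
    have := orderOf_le_of_pow_eq_one (by norm_num) (hsq e1 h1E)
    omega
  obtain ⟨ι, hι⟩ : ∃ ι, coord e1 e2 = ι := ⟨_, rfl⟩
  obtain ⟨v0, v1, v2, v3⟩ := coord_values e1 e2
  rw [hι] at v0 v1 v2 v3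
  have hinv : ∀ x ∈ E, x⁻¹ = x := fun x hx => inv_eq_of_mul_eq_one_right (by rw [← pow_two, hsq x hx])
  have hc : ∀ x ∈ E, ∀ y ∈ E, x * y = y * x := fun x hx y hy => by
    rw [← hinv (x * y) (mul_mem hx hy), mul_inv_rev, hinv x hx, hinv y hy]
  have h21 : e2 ≠ 1 := fun h => h2n (h ▸ one_mem _)
  have h2e1 : e2 ≠ e1 := fun h => h2n (h ▸ Subgroup.mem_zpowers e1)
  have h3 : e1 * e2 ≠ 1 := fun h => h2e1 (by rw [← hinv e1 h1E]; exact eq_inv_of_mul_eq_one_right h)
  have hinj : Function.Injective ι := by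
    intro v w h
    rcases four_cases v with rfl | rfl | rfl | rfl <;> rcases four_cases w with rfl | rfl | rfl | rfl <;>
      first
        | rfl
        | (exfalso; rw [v0, v1] at h; exact h11 h.symm)
        | (exfalso; rw [v1, v0] at h; exact h11 h)
        | (exfalso; rw [v0, v2] at h; exact h21 h.symm)
        | (exfalso; rw [v2, v0] at h; exact h21 h)
        | (exfalso; rw [v0, v3] at h; exact h3 h.symm)
        | (exfalso; rw [v3, v0] at h; exact h3 h)
        | (exfalso; rw [v1, v2] at h; exact h2e1 h.symm)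
        | (exfalso; rw [v2, v1] at h; exact h2e1 h)
        | (exfalso; rw [v1, v3] at h; exact h21 (left_eq_mul.1 h))
        | (exfalso; rw [v3, v1] at h; exact h21 (mul_eq_left.1 h))
        | (exfalso; rw [v2, v3] at h; exact h11 (right_eq_mul.1 h))
        | (exfalso; rw [v3, v2] at h; exact h11 (mul_eq_right.1 h))
  have hmem : ∀ v, ι v ∈ E := fun v => by
    rw [← hι]; exact mul_mem (pow_mem h1E _) (pow_mem h2E _)
  have hsurj : ∀ x, x ∈ E ↔ ∃ v, ι v = x := by
    refine fun x => ⟨fun hx => ?_, fun ⟨v, hv⟩ => hv ▸ hmem v⟩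
    have hb : Function.Bijective (fun v => (⟨ι v, hmem v⟩ : E)) := by
      rw [Nat.bijective_iff_injective_and_card]
      exact ⟨fun a b hab => hinj (congrArg Subtype.val hab), by rw [hE, Nat.card_eq_fintype_card]; rfl⟩
    obtain ⟨v, hv⟩ := hb.2 ⟨x, hx⟩
    exact ⟨v, congrArg Subtype.val hv⟩
  have hadd : ∀ v w, ι (v + w) = ι v * ι w := by
    intro v w
    have hp : ∀ (x : P), x ∈ E → ∀ a b : ZMod 2, x ^ (a + b).val = x ^ a.val * x ^ b.val := fun x hx a b => by
      rw [← pow_add]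
      exact pow_eq_pow_of_modEq (by rw [ZMod.val_add]; exact Nat.mod_modEq _ _) (hsq x hx)
    rw [← hι]
    simp only [coord, Prod.fst_add, Prod.snd_add, hp e1 h1E, hp e2 h2E]
    rw [mul_assoc, ← mul_assoc (e1 ^ w.1.val), hc _ (pow_mem h1E _) _ (pow_mem h2E _), mul_assoc, ← mul_assoc]
  refine ⟨ι, hinj, hadd, hsurj, fun p => ?_⟩
  have hf1 : p * e1 * p⁻¹ = e1 := by rw [hfix p (Subgroup.mem_top p), mul_inv_cancel_right]
  have hgen : ∀ v, p * ι v * p⁻¹ = (p * e1 * p⁻¹) ^ v.1.val * (p * e2 * p⁻¹) ^ v.2.val := fun v => by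
    rw [conj_pow, conj_pow, ← hι, coord]; group
  obtain ⟨u, hu⟩ := (hsurj _).1 (hn.conj_mem e2 h2E p)
  rcases four_cases u with rfl | rfl | rfl | rfl
  · rw [v0] at hu
    exact absurd (by simpa using hu.symm) h21
  · rw [v1] at hu
    have h : p * e2 * p⁻¹ = p * e1 * p⁻¹ := by rw [hf1, ← hu]
    exact absurd (mul_left_cancel (mul_right_cancel h)) h2e1
  · rw [v2] at hu
    exact Or.inl fun v => by rw [hgen, hf1, ← hu, ← hι]; rfl
  · refine Or.inr fun v => ?_
    rw [hgen, hf1, ← hu]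
    rcases four_cases v with rfl | rfl | rfl | rfl
    · rw [show shear 0 = 0 by decide, v0]; simp
    · rw [show shear (1, 0) = (1, 0) by decide, v1]; simp [ZMod.val_one]
    · rw [show shear (0, 1) = (1, 0) + (0, 1) by decide]; simp [ZMod.val_one]
    · rw [show shear ((1, 0) + (0, 1)) = (0, 1) by decide, v3, v2]
      simp [ZMod.val_one, ← mul_assoc]
      rw [← pow_two, hsq e1 h1E]

variable [Finite P]

theorem no_section (hP : IsPGroup 2 P)
    (h : ∀ A : Subgroup P, A.Normal → IsMulCommutative A → (∀ a ∈ A, a ^ 2 = 1) → Nat.card A ≤ 4)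
    (H : Subgroup P) {W : Type*} [Group W] [Finite W] (φ : H →* W) (hφ : Function.Surjective φ)
    (hW : ∀ w : W, w ^ 2 = 1) (hcard : 32 ≤ Nat.card W) : False := by
  classical
  obtain ⟨A, -, hmax⟩ := Finite.exists_le_maximal (p := fun A : Subgroup P => Good A) (a := ⊥)
    ⟨inferInstance, fun a ha b hb => by rw [Subgroup.mem_bot] at ha hb; rw [ha, hb],
      fun a ha => by rw [Subgroup.mem_bot] at ha; rw [ha, one_pow]⟩
  obtain ⟨hAn, hAc, hA4⟩ := hmax.1
  have hin : ∀ x, (∀ a ∈ A, x * a = a * x) → x ^ 4 = 1 → x ∈ A := fun x hx hx4 => four_mem hP hmax hx hx4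
  have hsmall : ∀ B : Subgroup P, B.Normal → (∀ a ∈ B, ∀ b ∈ B, a * b = b * a) →
      (∀ a ∈ B, a ^ 2 = 1) → Nat.card B ≤ 4 := fun B hB hc hs =>
    h B hB ⟨⟨fun a b => Subtype.ext (hc _ a.2 _ b.2)⟩⟩ hs
  let E : Subgroup P :=
    { carrier := {x | x ∈ A ∧ x ^ 2 = 1}
      one_mem' := ⟨one_mem _, one_pow 2⟩
      inv_mem' := fun {x} hx => ⟨inv_mem hx.1, by rw [inv_pow, hx.2, inv_one]⟩
      mul_mem' := fun {x y} hx hy =>
        ⟨mul_mem hx.1 hy.1, by rw [Commute.mul_pow (hAc x hx.1 y hy.1 : Commute x y), hx.2, hy.2, one_mul]⟩ }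
  have hEA : E ≤ A := fun x hx => hx.1
  have hEn : E.Normal :=
    ⟨fun x hx g => ⟨hAn.conj_mem x hx.1 g, by rw [conj_pow, hx.2, mul_one, mul_inv_cancel]⟩⟩
  have hE4 : Nat.card E ≤ 4 := hsmall E hEn (fun a ha b hb => hAc a ha.1 b hb.1) fun a ha => ha.2
  obtain ⟨kE, hkE⟩ := IsPGroup.iff_card.1 (hP.to_subgroup E)
  obtain ⟨kA, hkA⟩ := IsPGroup.iff_card.1 (hP.to_subgroup A)
  -- squares of `A`
  let sq : A →* E :=
    { toFun := fun a => ⟨a.1 ^ 2, pow_mem a.2 2, by rw [← pow_mul]; exact hA4 a.1 a.2⟩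
      map_one' := Subtype.ext (one_pow 2)
      map_mul' := fun a b => Subtype.ext (Commute.mul_pow (hAc a.1 a.2 b.1 b.2 : Commute a.1 b.1) 2) }
  have hker : Nat.card sq.ker ≤ Nat.card E := Nat.card_le_card_of_injective
    (fun a => (⟨a.1.1, a.1.2, congrArg Subtype.val a.2⟩ : E))
    fun a b hab => Subtype.ext (Subtype.ext (congrArg Subtype.val hab :))
  have hAE : Nat.card A = Nat.card sq.ker * Nat.card sq.range := by
    rw [← Subgroup.index_ker, Subgroup.card_mul_index]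
  have hrange : Nat.card sq.range ≤ Nat.card E := Subgroup.card_le_card_group _
  by_cases hbig : 2 * Nat.card E < Nat.card A
  · -- type (4, 4)
    have hA16 : Nat.card A ≤ Nat.card E * Nat.card E := by rw [hAE]; exact Nat.mul_le_mul hker hrange
    have hE : Nat.card E = 4 := by
      rcases kE with _ | _ | _ | kE
      · rw [hkE] at hA16 hbig; omega
      · rw [hkE] at hA16 hbig; omega
      · exact hkE
      · exfalso; rw [hkE, pow_succ, pow_succ, pow_succ] at hE4
        have := Nat.one_le_two_pow (n := kE); omega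
    have hA : Nat.card A = 16 := by
      rw [hE] at hA16 hbig
      rw [hkA] at hA16 hbig ⊢
      have : kA ≤ 4 := by
        by_contra hgt
        have := Nat.pow_le_pow_right (n := 2) (by norm_num) (show 5 ≤ kA by omega)
        omega
      interval_cases kA <;> omega
    have hsurj : Function.Surjective sq := MonoidHom.range_eq_top.1 (Subgroup.eq_top_of_le_card _ (by
      by_contra hlt
      push Not at hlt
      have : Nat.card sq.ker * Nat.card sq.range ≤ 4 * 3 := Nat.mul_le_mul (hker.trans hE.le) (by omega)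
      omega))
    obtain ⟨ι, hinj, hadd, hιE, hconj⟩ := exists_coord hP hEn (fun x hx => hx.2) hE
    have hF : Frame P :=
      { A := A
        ι := ι
        hP := hP
        normal := hAn
        comm := hAc
        inj := hinj
        map_add := hadd
        iota_iff := fun x => hιE x
        sq_mem := fun a ha => (hιE _).1 ⟨pow_mem ha 2, by rw [← pow_mul]; exact hA4 a ha⟩
        sq_surj := fun w => by
          obtain ⟨a, ha⟩ := hsurj ⟨ι w, (hιE _).2 ⟨w, rfl⟩⟩
          exact ⟨a.1, a.2, congrArg Subtype.val ha⟩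
        conjE := hconj
        inA := hin
        small := hsmall }
    exact hF.no_section H φ hφ hW hcard
  push Not at hbig
  -- small `A`
  have hWc : ∀ a b : W, a * b = b * a := fun a b => by
    have hi : ∀ x : W, x⁻¹ = x := fun x => inv_eq_of_mul_eq_one_right (by rw [← pow_two, hW])
    rw [← hi (a * b), mul_inv_rev, hi, hi]
  obtain ⟨a0, ha0, hcases⟩ : ∃ a0 ∈ A, ∀ a ∈ A, a ∈ E ∨ a0⁻¹ * a ∈ E := by
    by_cases hle : A ≤ E
    · exact ⟨1, one_mem _, fun a ha => Or.inl (hle ha)⟩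
    obtain ⟨a0, ha0, hn0⟩ := SetLike.not_le_iff_exists.1 hle
    refine ⟨a0, ha0, fun a ha => ?_⟩
    have hidx : (E.subgroupOf A).index = 2 := by
      have h1 := (E.subgroupOf A).card_mul_index
      rw [Nat.card_congr (Subgroup.subgroupOfEquivOfLe hEA).toEquiv] at h1
      have h2 : (E.subgroupOf A).index ≠ 1 := fun he => hle (Subgroup.subgroupOf_eq_top.1
        (Subgroup.index_eq_one.1 he))
      have h3 : (E.subgroupOf A).index ≠ 0 := Subgroup.index_ne_zero_of_finite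
      have h4 : (E.subgroupOf A).index ≤ 2 := Nat.le_of_mul_le_mul_left
        (show Nat.card E * (E.subgroupOf A).index ≤ Nat.card E * 2 by rw [h1]; linarith) Nat.card_pos
      omega
    by_cases haE : a ∈ E
    · exact Or.inl haE
    · right
      have := (Subgroup.mul_mem_iff_of_index_two hidx (a := (⟨a0, ha0⟩ : A)⁻¹) (b := ⟨a, ha⟩)).2
        (iff_of_false (fun hc => hn0 (by simpa [Subgroup.mem_subgroupOf] using inv_mem hc))
          (fun hc => haE (Subgroup.mem_subgroupOf.1 hc)))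
      simpa [Subgroup.mem_subgroupOf] using this
  generalize hC : Subgroup.centralizer (A : Set P) = C
  generalize hT : Subgroup.centralizer (E : Set P) = T
  have hmC : ∀ x, x ∈ C ↔ ∀ a ∈ A, x * a = a * x := fun x => by
    rw [← hC, Subgroup.mem_centralizer_iff]
    exact ⟨fun hh a ha => (hh a ha).symm, fun hh a ha => (hh a ha).symm⟩
  have hmT : ∀ x, x ∈ T ↔ ∀ e ∈ E, x * e = e * x := fun x => by
    rw [← hT, Subgroup.mem_centralizer_iff]
    exact ⟨fun hh a ha => (hh a ha).symm, fun hh a ha => (hh a ha).symm⟩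
  have hδ : ∀ x ∈ T, x * a0 * x⁻¹ * a0⁻¹ ∈ E := fun x hx => by
    refine ⟨mul_mem (hAn.conj_mem a0 ha0 x) (inv_mem ha0), ?_⟩
    rw [Commute.mul_pow (hAc _ (hAn.conj_mem a0 ha0 x) _ (inv_mem ha0) : Commute _ _), conj_pow,
      inv_pow, (hmT x).1 hx (a0 ^ 2) ⟨pow_mem ha0 2, by rw [← pow_mul]; exact hA4 a0 ha0⟩,
      mul_inv_cancel_right, mul_inv_cancel]
  have hTC : ∀ x ∈ T, ∀ y ∈ T, x * a0 * x⁻¹ * a0⁻¹ = y * a0 * y⁻¹ * a0⁻¹ → x⁻¹ * y ∈ C := by
    intro x hx y hy he
    have he' : x * a0 * x⁻¹ = y * a0 * y⁻¹ := mul_right_cancel he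
    have hu := mul_mem (inv_mem hx) hy
    have ha : (x⁻¹ * y) * a0 = a0 * (x⁻¹ * y) := by
      calc _ = x⁻¹ * (y * a0 * y⁻¹) * y := by group
        _ = _ := by rw [← he']; group
    rw [hmC]
    intro a haA
    rcases hcases a haA with h | h
    · exact (hmT _).1 hu a h
    · rw [show a = a0 * (a0⁻¹ * a) by group]
      exact (Commute.mul_right (ha : Commute _ _) ((hmT _).1 hu _ h : Commute _ _)).eq
  generalize hL : C.subgroupOf H = L
  -- the bound on the index of `L`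
  let f : ∀ x : H, x.1 ∈ T → E := fun x hx => ⟨_, hδ x.1 hx⟩
  have hfC : ∀ (x y : H) (hx : x.1 ∈ T) (hy : y.1 ∈ T), f x hx = f y hy → x⁻¹ * y ∈ L := by
    intro x y hx hy he
    rw [← hL, Subgroup.mem_subgroupOf]
    exact hTC _ hx _ hy (congrArg Subtype.val he)
  have hall : (∀ x : H, x.1 ∈ T) → L.index ≤ Nat.card E := fun hh =>
    index_le_of_map _ (fun x => f x (hh x)) fun a b hab => hfC a b (hh a) (hh b) hab
  have hM : Nat.card (L.map φ) ≤ Nat.card E := by
    have hLC : ∀ x : L, x.1.1 ∈ C := fun x => Subgroup.mem_subgroupOf.1 (hL ▸ x.2)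
    have hcL : ∀ x y : L, x ^ 4 = 1 → Commute x y := fun x y hx => Subtype.ext (Subtype.ext (by
      have hxA := hin x.1.1 ((hmC _).1 (hLC x)) (by
        simpa using congrArg Subtype.val (congrArg Subtype.val hx))
      exact ((hmC _).1 (hLC y) _ hxA).symm))
    have hψ : (φ.comp L.subtype).range = L.map φ := by rw [MonoidHom.range_comp, Subgroup.range_subtype]
    rw [← hψ]
    refine (card_range_le ((hP.to_subgroup H).to_subgroup L) hcL _ hW).trans ?_
    have hx2 : ∀ x : {x : L // x ^ 2 = 1}, x.1.1.1 ^ 2 = 1 := fun x => by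
      simpa using congrArg Subtype.val (congrArg Subtype.val x.2)
    exact Nat.card_le_card_of_injective
      (fun x => (⟨x.1.1.1, hin _ ((hmC _).1 (hLC x.1))
        (by rw [show 4 = 2 * 2 from rfl, pow_mul, hx2 x, one_pow]), hx2 x⟩ : E))
      fun a b hab => Subtype.ext (Subtype.ext (Subtype.ext (congrArg Subtype.val hab :)))
  have hMW := (L.map φ).card_mul_index
  have hdvd : (L.map φ).index ≤ L.index :=
    Nat.le_of_dvd (Nat.pos_of_ne_zero Subgroup.index_ne_zero_of_finite) (L.index_map_dvd hφ)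
  by_cases hh : ∀ x : H, x.1 ∈ T
  · have := hall hh
    nlinarith
  push Not at hh
  obtain ⟨s, hs⟩ := hh
  -- then `E` is a four group
  have hE : Nat.card E = 4 := by
    rcases kE with _ | _ | _ | kE
    · exfalso
      refine hs ((hmT _).2 fun e he => ?_)
      rw [Subgroup.eq_bot_of_card_eq E (by simpa using hkE), Subgroup.mem_bot] at he
      rw [he, mul_one, one_mul]
    · exfalso
      refine hs ((hmT _).2 fun e he => ?_)
      by_cases he1 : e = 1
      · rw [he1, mul_one, one_mul]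
      have hne : s.1 * e * s.1⁻¹ ≠ 1 := fun hc => he1 (by simpa using hc)
      obtain ⟨u, -, hu⟩ := (Nat.card_eq_two_iff' (1 : E)).1 (by simpa using hkE)
      have h1 := hu ⟨e, he⟩ fun hc => he1 (congrArg Subtype.val hc)
      have h2 := hu ⟨_, hEn.conj_mem e he s.1⟩ fun hc => hne (congrArg Subtype.val hc)
      exact mul_inv_eq_iff_eq_mul.1 (congrArg Subtype.val (h2.trans h1.symm))
    · exact hkE
    · exfalso; rw [hkE, pow_succ, pow_succ, pow_succ] at hE4
      have := Nat.one_le_two_pow (n := kE); omega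
  obtain ⟨ι, hinj, hadd, hιE, hconj⟩ := exists_coord hP hEn (fun x hx => hx.2) hE
  have hfixT : ∀ x, (∀ v, x * ι v * x⁻¹ = ι v) → x ∈ T := fun x hx => (hmT x).2 fun e he => by
    obtain ⟨v, rfl⟩ := (hιE e).1 he
    exact mul_inv_eq_iff_eq_mul.1 (hx v)
  have hshear : ∀ x, x ∉ T → ∀ v, x * ι v * x⁻¹ = ι (shear v) := fun x hx =>
    (hconj x).resolve_left fun h => hx (hfixT x h)
  have hs' : s.1⁻¹ ∉ T := fun hc => hs (by simpa using inv_mem hc)
  have hsT : ∀ x : H, x.1 ∉ T → (s⁻¹ * x).1 ∈ T := fun x hx => hfixT _ fun v => by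
    rw [Subgroup.coe_mul, Subgroup.coe_inv,
      show s.1⁻¹ * x.1 * ι v * (s.1⁻¹ * x.1)⁻¹ = s.1⁻¹ * (x.1 * ι v * x.1⁻¹) * (s.1⁻¹)⁻¹ by group,
      hshear _ hx, hshear _ hs', shear_shear]
  obtain ⟨e2, he2, hmove⟩ : ∃ e2 ∈ E, s.1 * e2 * s.1⁻¹ ≠ e2 := by
    by_contra! hc
    exact hs ((hmT _).2 fun e he => mul_inv_eq_iff_eq_mul.1 (hc e he))
  -- the image of `f` is all of `E`
  let g : H → Bool × (Set.range fun x : {x : H // x.1 ∈ T} => f x.1 x.2) := fun x =>
    if hx : x.1 ∈ T then (true, ⟨f x hx, ⟨x, hx⟩, rfl⟩) else (false, ⟨f _ (hsT x hx), ⟨_, hsT x hx⟩, rfl⟩)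
  have hg : L.index ≤ 2 * Nat.card (Set.range fun x : {x : H // x.1 ∈ T} => f x.1 x.2) := by
    refine le_of_le_of_eq (index_le_of_map _ g fun a b hab => ?_)
      (by rw [Nat.card_prod, Nat.card_eq_fintype_card (α := Bool), Fintype.card_bool])
    simp only [g] at hab
    by_cases ha : a.1 ∈ T <;> by_cases hb : b.1 ∈ T <;> simp [ha, hb] at hab
    · exact hfC a b ha hb (congrArg Subtype.val hab :)
    · have := hfC (s⁻¹ * a) (s⁻¹ * b) (hsT a ha) (hsT b hb) (congrArg Subtype.val hab :)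
      simpa [mul_assoc] using this
  have hr4 : Nat.card (Set.range fun x : {x : H // x.1 ∈ T} => f x.1 x.2) ≤ 4 :=
    le_of_le_of_eq (Nat.card_le_card_of_injective _ Subtype.val_injective) hE
  have hfull : (⟨e2, he2⟩ : E) ∈ Set.range fun x : {x : H // x.1 ∈ T} => f x.1 x.2 := by
    have hu : (Set.range fun x : {x : H // x.1 ∈ T} => f x.1 x.2) = Set.univ :=
      Set.eq_of_subset_of_ncard_le (Set.subset_univ _) (by
        rw [Set.ncard_univ, ← Nat.card_coe_set_eq, hE]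
        nlinarith) (Set.toFinite _)
    rw [hu]
    trivial
  have hk : φ.ker ≤ L := by
    by_contra hk
    have := index_map_two_le hφ hk
    nlinarith
  obtain ⟨⟨x, hx⟩, hxe⟩ := hfull
  have hxe' : x.1 * a0 * x.1⁻¹ * a0⁻¹ = e2 := congrArg Subtype.val hxe
  have hc : s * x * s⁻¹ * x⁻¹ ∈ φ.ker := by
    rw [MonoidHom.mem_ker, map_mul, map_mul, map_mul, hWc (φ s), map_inv, map_inv,
      mul_inv_cancel_right, mul_inv_cancel]
  have hcC : s.1 * x.1 * s.1⁻¹ * x.1⁻¹ ∈ C := Subgroup.mem_subgroupOf.1 (hL ▸ hk hc)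
  apply hmove
  -- both ways of moving `a0`
  have ha : s.1⁻¹ * a0 * s.1 ∈ A := hAn.conj_mem' a0 ha0 s.1
  have hxa : x.1 * (s.1⁻¹ * a0 * s.1) * x.1⁻¹ = e2 * (s.1⁻¹ * a0 * s.1) := by
    rcases hcases _ ha with h | h
    · exfalso
      apply hmove
      have h0 : a0 ∈ E := by
        have := hEn.conj_mem _ h s.1
        simpa [mul_assoc] using this
      have : e2 = 1 := by rw [← hxe', (hmT x.1).1 hx a0 h0, mul_inv_cancel_right, mul_inv_cancel]
      rw [this, mul_one, mul_inv_cancel]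
    · have hfix := mul_inv_eq_iff_eq_mul.2 ((hmT x.1).1 hx _ h)
      generalize hu : a0⁻¹ * (s.1⁻¹ * a0 * s.1) = u at hfix
      rw [show s.1⁻¹ * a0 * s.1 = a0 * u by rw [← hu, mul_inv_cancel_left],
        show x.1 * (a0 * u) * x.1⁻¹ = (x.1 * a0 * x.1⁻¹) * (x.1 * u * x.1⁻¹) by group, hfix,
        show x.1 * a0 * x.1⁻¹ = e2 * a0 by rw [← hxe', inv_mul_cancel_right], mul_assoc]
  have h1 : (s.1 * x.1 * s.1⁻¹) * a0 * (s.1 * x.1 * s.1⁻¹)⁻¹ = s.1 * e2 * s.1⁻¹ * a0 := by
    rw [show (s.1 * x.1 * s.1⁻¹) * a0 * (s.1 * x.1 * s.1⁻¹)⁻¹ =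
      s.1 * (x.1 * (s.1⁻¹ * a0 * s.1) * x.1⁻¹) * s.1⁻¹ by group, hxa]
    group
  have h2 : (s.1 * x.1 * s.1⁻¹) * a0 * (s.1 * x.1 * s.1⁻¹)⁻¹ = e2 * a0 := by
    generalize hcd : s.1 * x.1 * s.1⁻¹ * x.1⁻¹ = c at hcC
    rw [show s.1 * x.1 * s.1⁻¹ = c * x.1 by rw [← hcd]; group,
      show c * x.1 * a0 * (c * x.1)⁻¹ = c * (x.1 * a0 * x.1⁻¹) * c⁻¹ by group,
      show x.1 * a0 * x.1⁻¹ = e2 * a0 by rw [← hxe', inv_mul_cancel_right],
      (hmC c).1 hcC _ (mul_mem he2.1 ha0), mul_inv_cancel_right]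
  exact mul_right_cancel (h1.symm.trans h2)

end Cfsg.Agent.Lib.SectionalFour
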